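import Cfsg.Agent.H166.Cov.Defs

/-!
# From the special linear group to `PSL` (task S of S2483, helper446)
-/

set_option autoImplicit false

namespace Cfsg.Agent.H446.CovPsl

open Module Polynomial Cfsg.Agent.H166.Cov

universe u

open Matrix in
theorem mk_eq_of_smul {F : Type u} [Field F] {n : ℕ} {A B : SpecialLinearGroup (Fin n) F} {z : F}
    (h : (A : Matrix (Fin n) (Fin n) F) = z • (B : Matrix (Fin n) (Fin n) F)) :
    (QuotientGroup.mk A : ProjectiveSpecialLinearGroup (Fin n) F) = QuotientGroup.mk B := by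
  symm
  rw [QuotientGroup.eq, Matrix.SpecialLinearGroup.mem_center_iff]
  have h1 : ((B⁻¹ * A : SpecialLinearGroup (Fin n) F) : Matrix (Fin n) (Fin n) F) = scalar (Fin n) z := by
    have e1 : ((B⁻¹ * A : SpecialLinearGroup (Fin n) F) : Matrix (Fin n) (Fin n) F) =
        (B⁻¹ : SpecialLinearGroup (Fin n) F).1 * A.1 := rfl
    have e2 : (B⁻¹ : SpecialLinearGroup (Fin n) F).1 * B.1 = 1 := congrArg Subtype.val (inv_mul_cancel B)
    rw [e1, h, mul_smul_comm, e2, smul_one_eq_diagonal]
    rfl
  refine ⟨z, ?_, h1.symm⟩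
  have h2 := (B⁻¹ * A).2
  change ((B⁻¹ * A : SpecialLinearGroup (Fin n) F) : Matrix (Fin n) (Fin n) F).det = 1 at h2
  rw [h1] at h2
  simpa using h2

theorem upper_of {F : Type u} [Field F] [Fintype F] (n : ℕ) (hn : 3 ≤ n)
    (H : ∀ T g : End F (Fin n → F), LinearMap.det T = 1 → NS T → LinearMap.det g = 1 →
      ∃ z : F, z ≠ 0 ∧ HPS T n (z • g)) :
    ∀ x : Matrix.ProjectiveSpecialLinearGroup (Fin n) F, x ≠ 1 → ∀ g : Matrix.ProjectiveSpecialLinearGroup (Fin n) F,
      ∃ f : Fin n → Matrix.ProjectiveSpecialLinearGroup (Fin n) F, g = (List.ofFn fun i => f i * x * (f i)⁻¹).prod := by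
  intro x hx g
  obtain ⟨X, rfl⟩ := QuotientGroup.mk_surjective x
  obtain ⟨A, rfl⟩ := QuotientGroup.mk_surjective g
  obtain ⟨z, hz, L, hL, hS, hP⟩ := H (Matrix.toLin' X.1) (Matrix.toLin' A.1) (by rw [LinearMap.det_toLin', X.2])
    (by
      intro c hc
      apply hx
      have h1 : (X : Matrix (Fin n) (Fin n) F) = c • ((1 : Matrix.SpecialLinearGroup (Fin n) F) : Matrix (Fin n) (Fin n) F) := by
        apply Matrix.toLin'.injective
        rw [map_smul, Matrix.SpecialLinearGroup.coe_one, Matrix.toLin'_one]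
        exact hc
      exact mk_eq_of_smul h1) (by rw [LinearMap.det_toLin', A.2])
  -- the conjugating matrices
  have hM : ∀ i : Fin n, ∃ M : Matrix.SpecialLinearGroup (Fin n) F,
      Matrix.toLin' (M * X * M⁻¹ : Matrix.SpecialLinearGroup (Fin n) F).1 = L.get (Fin.cast hL.symm i) := by
    intro i
    obtain ⟨e, he, hx⟩ := hS _ (L.get_mem (Fin.cast hL.symm i))
    let M : Matrix.SpecialLinearGroup (Fin n) F :=
      ⟨LinearMap.toMatrix' (e : (Fin n → F) →ₗ[F] (Fin n → F)), by
        rw [LinearMap.det_toMatrix', he]⟩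
    refine ⟨M, ?_⟩
    have h1 : Matrix.toLin' (M : Matrix (Fin n) (Fin n) F) = (e : (Fin n → F) →ₗ[F] (Fin n → F)) := by
      exact Matrix.toLin'_toMatrix' _
    have h2 : Matrix.toLin' (M * X : Matrix.SpecialLinearGroup (Fin n) F).1 = L.get (Fin.cast hL.symm i) * Matrix.toLin' M.1 := by
      have h3 : (M * X : Matrix.SpecialLinearGroup (Fin n) F).1 = M.1 * X.1 := rfl
      rw [h3, Matrix.toLin'_mul, h1]
      exact LinearMap.ext fun v => hx v
    have h4 : (M * X * M⁻¹ : Matrix.SpecialLinearGroup (Fin n) F).1 = (M * X : Matrix.SpecialLinearGroup (Fin n) F).1 * (M⁻¹).1 := rfl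
    rw [h4, Matrix.toLin'_mul, h2, ← Module.End.mul_eq_comp, mul_assoc, Module.End.mul_eq_comp (Matrix.toLin' _) (Matrix.toLin' _), ← Matrix.toLin'_mul]
    have h5 : M.1 * (M⁻¹).1 = 1 := by
      have := congrArg Subtype.val (mul_inv_cancel M)
      exact this
    rw [h5, Matrix.toLin'_one]
    rfl
  choose M hM using hM
  refine ⟨fun i => QuotientGroup.mk (M i), ?_⟩
  have h1 : (List.ofFn fun i => (QuotientGroup.mk (M i) : Matrix.ProjectiveSpecialLinearGroup (Fin n) F) *
      QuotientGroup.mk X * (QuotientGroup.mk (M i))⁻¹).prod = QuotientGroup.mk (List.ofFn fun i => M i * X * (M i)⁻¹).prod := by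
    have h2 : (List.ofFn fun i => (QuotientGroup.mk (M i) : Matrix.ProjectiveSpecialLinearGroup (Fin n) F) *
      QuotientGroup.mk X * (QuotientGroup.mk (M i))⁻¹) =
        (List.ofFn fun i => M i * X * (M i)⁻¹).map (QuotientGroup.mk' (Subgroup.center _)) := by
      rw [List.map_ofFn]
      rfl
    rw [h2, ← map_list_prod]
    rfl
  rw [h1]
  symm
  apply mk_eq_of_smul (z := z)
  apply Matrix.toLin'.injective
  rw [map_smul, ← hP]
  -- the matrix of the product
  have key : ∀ l : List (Matrix.SpecialLinearGroup (Fin n) F),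
      Matrix.toLin' l.prod.1 = (l.map fun B => Matrix.toLin' B.1).prod := by
    intro l
    induction l with
    | nil =>
      simp only [List.prod_nil, List.map_nil]
      exact Matrix.toLin'_one
    | cons B l ih =>
      rw [List.prod_cons, List.map_cons, List.prod_cons, ← ih]
      exact Matrix.toLin'_mul _ _
  have h6 := key (List.ofFn fun i => M i * X * (M i)⁻¹)
  rw [List.map_ofFn] at h6
  have h7 : (List.ofFn ((fun B : Matrix.SpecialLinearGroup (Fin n) F => Matrix.toLin' B.1) ∘ fun i => M i * X * (M i)⁻¹)) = L := by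
    have h8 : ((fun B : Matrix.SpecialLinearGroup (Fin n) F => Matrix.toLin' B.1) ∘ fun i => M i * X * (M i)⁻¹) = fun i => L.get (Fin.cast hL.symm i) :=
      funext hM
    rw [h8]
    apply List.ext_get
    · rw [List.length_ofFn, hL]
    · intro k h1 h2
      simp
  rw [h7] at h6
  exact h6

end Cfsg.Agent.H446.CovPsl
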