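import Cfsg.Agent.H166.Cov.Defs

/-!
# Real elements of `SL₄`, determinant one (task R of S2483, helper446)
-/

set_option autoImplicit false

namespace Cfsg.Agent.H446.CovReal

open Module Polynomial Cfsg.Agent.H166.Cov

universe u

variable {F : Type u} [Field F] {V W U : Type u} [AddCommGroup V] [Module F V] [AddCommGroup W] [Module F W]
  [AddCommGroup U] [Module F U]

/-- a recurrence of length 4 -/
def Rec (c₃ c₂ c₁ c₀ : F) (S : End F V) : Prop := S ^ 4 = c₃ • S ^ 3 + c₂ • S ^ 2 + c₁ • S + c₀ • 1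

theorem rec_of_charpoly [FiniteDimensional F V] {T : End F V} {a b : F}
    (hc : LinearMap.charpoly T = (X ^ 2 - C a * X + C b) ^ 2) :
    Rec (2 * a) (-(a ^ 2 + 2 * b)) (2 * a * b) (-b ^ 2) T := by
  have h1 := LinearMap.aeval_self_charpoly T
  have key : ∀ c₃ c₂ c₁ c₀ : F, aeval T (X ^ 4 - C c₃ * X ^ 3 - C c₂ * X ^ 2 - C c₁ * X - C c₀ : F[X]) = 0 →
      Rec c₃ c₂ c₁ c₀ T := by
    intro c₃ c₂ c₁ c₀ h
    simp only [map_sub, map_mul, aeval_X, map_pow, aeval_C, Algebra.algebraMap_eq_smul_one, smul_mul_assoc,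
      one_mul] at h
    unfold Rec
    have h3 : T ^ 4 = T ^ 4 - (T ^ 4 - c₃ • T ^ 3 - c₂ • T ^ 2 - c₁ • T - c₀ • 1) := by rw [h, sub_zero]
    rw [h3]
    abel
  apply key
  rw [← h1, hc]
  congr 1
  simp only [map_mul, map_add, map_pow, map_ofNat, map_neg]
  ring

theorem det_eq [FiniteDimensional F V] (hV : finrank F V = 4) {T : End F V} {a b : F}
    (hc : LinearMap.charpoly T = (X ^ 2 - C a * X + C b) ^ 2) : LinearMap.det T = b ^ 2 := by
  rw [LinearMap.det_eq_sign_charpoly_coeff, hV, hc, coeff_zero_eq_eval_zero]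
  simp only [eval_pow, eval_add, eval_sub, eval_mul, eval_X, eval_C]
  ring

/-- the first four values of the sequence `φ (S ^ i x)` -/
def Ph (φ : V →ₗ[F] F) (S : End F V) : V →ₗ[F] (Fin 4 → F) := LinearMap.pi fun i => φ ∘ₗ (S ^ (i : ℕ))

theorem Ph_apply (φ : V →ₗ[F] F) (S : End F V) (x : V) (i : Fin 4) : Ph φ S x i = φ ((S ^ (i : ℕ)) x) := rfl

theorem Ph_eq {φ : V →ₗ[F] F} {S S' : End F V} {c₃ c₂ c₁ c₀ : F} (h : Rec c₃ c₂ c₁ c₀ S) (h' : Rec c₃ c₂ c₁ c₀ S')
    {x y : V} (hxy : Ph φ S x = Ph φ S' y) : Ph φ S (S x) = Ph φ S' (S' y) := by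
  have hi : ∀ i < 4, φ ((S ^ i) x) = φ ((S' ^ i) y) := fun i hi => congrFun hxy ⟨i, hi⟩
  have h0 := hi 0 (by norm_num)
  have h1 := hi 1 (by norm_num)
  have h2 := hi 2 (by norm_num)
  have h3 := hi 3 (by norm_num)
  have h4 : φ ((S ^ 4) x) = φ ((S' ^ 4) y) := by
    rw [h, h']
    simp only [LinearMap.add_apply, LinearMap.smul_apply, map_add, map_smul, Module.End.one_apply]
    rw [h2, h3]
    simp only [pow_zero, pow_one, Module.End.one_apply] at h0 h1
    rw [h0, h1]
  have hs : ∀ (R : End F V) (k : ℕ) (z : V), (R ^ k) (R z) = (R ^ (k + 1)) z := by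
    intro R k z
    rw [pow_succ]
    rfl
  ext i
  rw [Ph_apply, Ph_apply, hs, hs]
  fin_cases i
  · exact h1
  · exact h2
  · exact h3
  · exact h4

theorem ker_Ph_invariant {φ : V →ₗ[F] F} {S : End F V} {c₃ c₂ c₁ c₀ : F} (h : Rec c₃ c₂ c₁ c₀ S) {x : V}
    (hx : Ph φ S x = 0) : Ph φ S (S x) = 0 := by
  have h1 := Ph_eq (x := x) (y := 0) (φ := φ) h h (by rw [hx, map_zero])
  rw [h1, map_zero, map_zero]

theorem Ph_injective {φ : V →ₗ[F] F} {S T : End F V} (hφ : Obs φ T) {c₃ c₂ c₁ c₀ : F} (h : Rec c₃ c₂ c₁ c₀ S)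
    {p : F[X]} (hT : T = aeval S p) : Function.Injective (Ph φ S) := by
  rw [← LinearMap.ker_eq_bot]
  apply hφ
  · intro x hx
    have h1 := congrFun (LinearMap.mem_ker.1 hx) 0
    rwa [Ph_apply] at h1
  · intro x hx
    have key : ∀ q : F[X], ∀ y ∈ LinearMap.ker (Ph φ S), aeval S q y ∈ LinearMap.ker (Ph φ S) := by
      intro q
      induction q using Polynomial.induction_on' with
      | add q₁ q₂ h₁ h₂ =>
        intro y hy
        rw [map_add]
        exact Submodule.add_mem _ (h₁ y hy) (h₂ y hy)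
      | monomial k c =>
        intro y hy
        rw [aeval_monomial, Algebra.algebraMap_eq_smul_one, smul_mul_assoc, one_mul]
        apply Submodule.smul_mem
        induction k with
        | zero => rw [pow_zero]; exact hy
        | succ k ih =>
          rw [pow_succ']
          exact LinearMap.mem_ker.2 (ker_Ph_invariant h (LinearMap.mem_ker.1 ih))
    rw [hT]
    exact key p x hx

/-- the intertwining map -/
theorem exists_equiv [FiniteDimensional F V] (hV : finrank F V = 4) {φ : V →ₗ[F] F} {T T' : End F V} (hφ : Obs φ T)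
    {c₃ c₂ c₁ c₀ : F} (h : Rec c₃ c₂ c₁ c₀ T) (h' : Rec c₃ c₂ c₁ c₀ T') {p : F[X]} (hT : T = aeval T' p) :
    ∃ e : V ≃ₗ[F] V, (∀ x, Ph φ T' (e x) = Ph φ T x) ∧ ∀ x, e (T x) = T' (e x) := by
  have i1 : Function.Injective (Ph φ T) := Ph_injective hφ h (p := X) (by rw [aeval_X])
  have i2 : Function.Injective (Ph φ T') := Ph_injective hφ h' hT
  have hd : finrank F V = finrank F (Fin 4 → F) := by rw [hV, finrank_fin_fun]
  let e1 := LinearEquiv.ofInjectiveOfFinrankEq (Ph φ T) i1 hd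
  let e2 := LinearEquiv.ofInjectiveOfFinrankEq (Ph φ T') i2 hd
  have he : ∀ x, Ph φ T' ((e1.trans e2.symm) x) = Ph φ T x := by
    intro x
    have : e2 (e2.symm (e1 x)) = e1 x := e2.apply_symm_apply _
    exact this
  refine ⟨e1.trans e2.symm, he, ?_⟩
  intro x
  apply i2
  rw [he]
  exact Ph_eq h h' (he x).symm

theorem sims_real [FiniteDimensional F V] (hV : finrank F V = 4) {T : End F V} (hT : Coc T) {a b : F} (hb : b ≠ 0)
    (hc : LinearMap.charpoly T = (X ^ 2 - C a * X + C b) ^ 2) :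
    ∃ T' : End F V, SimS T T' ∧ T * T' = b • (1 : End F V) := by
  obtain ⟨φ, hφ⟩ := hT
  have hrec := rec_of_charpoly hc
  have hdet := det_eq hV hc
  set c₃ := 2 * a with h3
  set c₂ := -(a ^ 2 + 2 * b) with h2
  set c₁ := 2 * a * b with h1
  -- the inverse
  set T' : End F V := -(b⁻¹ • T ^ 3) + (b⁻¹ * c₃) • T ^ 2 + (b⁻¹ * c₂) • T + (b⁻¹ * c₁) • 1 with hT'
  have hTT' : T * T' = b • (1 : End F V) := by
    have e1 : T * T' = b⁻¹ • (-(T ^ 4) + c₃ • T ^ 3 + c₂ • T ^ 2 + c₁ • T) := by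
      rw [hT']
      simp only [mul_add, mul_neg, mul_smul_comm, mul_one, smul_add, smul_neg, ← pow_succ', mul_smul, ← pow_two]
    rw [e1, hrec]
    have e2 : -(c₃ • T ^ 3 + c₂ • T ^ 2 + c₁ • T + (-b ^ 2) • (1 : End F V)) + c₃ • T ^ 3 + c₂ • T ^ 2 + c₁ • T =
        b ^ 2 • 1 := by
      module
    rw [e2, ← mul_smul]
    congr 1
    field_simp
  have hT'T : T' * T = b • (1 : End F V) := by
    rw [← hTT', hT']
    simp only [mul_add, add_mul, mul_neg, neg_mul, mul_smul_comm, smul_mul_assoc, mul_one, one_mul, ← pow_succ',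
      ← pow_succ, ← pow_two]
  have hcomm : Commute T T' := by
    show T * T' = T' * T
    rw [hTT', hT'T]
  have hpow : ∀ k : ℕ, T ^ k * T' ^ k = b ^ k • (1 : End F V) := by
    intro k
    rw [← hcomm.mul_pow, hTT', _root_.smul_pow, one_pow]
  have hinj : Function.Injective T := by
    intro x y hxy
    have h5 : (T' * T) x = (T' * T) y := by
      rw [Module.End.mul_apply, Module.End.mul_apply, hxy]
    rw [hT'T] at h5
    exact smul_right_injective V hb h5
  have hrec' : Rec c₃ c₂ c₁ (-b ^ 2) T' := by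
    unfold Rec
    have hinj4 : Function.Injective ((T ^ 4 : End F V) : V → V) := by
      rw [Module.End.coe_pow]
      exact hinj.iterate 4
    have e4 : T ^ 4 * (T' ^ 4) = T ^ 4 * (c₃ • T' ^ 3 + c₂ • T' ^ 2 + c₁ • T' + (-b ^ 2) • 1) := by
      have f3 : T ^ 4 * T' ^ 3 = b ^ 3 • T := by
        rw [pow_succ', mul_assoc, hpow 3, mul_smul_comm, mul_one]
      have f2 : T ^ 4 * T' ^ 2 = b ^ 2 • T ^ 2 := by
        rw [show T ^ 4 = T ^ 2 * T ^ 2 by rw [← pow_add], mul_assoc, hpow 2, mul_smul_comm, mul_one]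
      have f1 : T ^ 4 * T' = b • T ^ 3 := by
        rw [pow_succ, mul_assoc, hTT', mul_smul_comm, mul_one]
      rw [hpow 4, mul_add, mul_add, mul_add, mul_smul_comm, mul_smul_comm, mul_smul_comm, mul_smul_comm, f3, f2, f1,
        mul_one, hrec]
      rw [h3, h1, h2]
      module
    ext x
    apply hinj4
    exact LinearMap.congr_fun e4 x
  -- `T` is a polynomial in `T'`
  have hp : T = aeval T' (-C b⁻¹ * X ^ 3 + C (b⁻¹ * c₃) * X ^ 2 + C (b⁻¹ * c₂) * X + C (b⁻¹ * c₁)) := by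
    have e0 : aeval T' (-C b⁻¹ * X ^ 3 + C (b⁻¹ * c₃) * X ^ 2 + C (b⁻¹ * c₂) * X + C (b⁻¹ * c₁)) =
        -(b⁻¹ • T' ^ 3) + (b⁻¹ * c₃) • T' ^ 2 + (b⁻¹ * c₂) • T' + (b⁻¹ * c₁) • 1 := by
      simp only [map_add, map_mul, map_neg, aeval_C, map_pow, aeval_X, Algebra.algebraMap_eq_smul_one,
        smul_mul_assoc, one_mul, neg_mul]
      module
    rw [e0]
    have hinj' : Function.Injective ((T' : End F V) : V → V) := by
      intro x y hxy
      have h5 : (T * T') x = (T * T') y := by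
        rw [Module.End.mul_apply, Module.End.mul_apply, hxy]
      rw [hTT'] at h5
      exact smul_right_injective V hb h5
    have e5 : T' * T = T' * (-(b⁻¹ • T' ^ 3) + (b⁻¹ * c₃) • T' ^ 2 + (b⁻¹ * c₂) • T' + (b⁻¹ * c₁) • 1) := by
      have e6 : T' * (-(b⁻¹ • T' ^ 3) + (b⁻¹ * c₃) • T' ^ 2 + (b⁻¹ * c₂) • T' + (b⁻¹ * c₁) • 1) =
          b⁻¹ • (-(T' ^ 4) + c₃ • T' ^ 3 + c₂ • T' ^ 2 + c₁ • T') := by
        simp only [mul_add, mul_neg, mul_smul_comm, mul_one, smul_add, smul_neg, ← pow_succ', mul_smul, ← pow_two]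
      rw [e6, hrec', hT'T]
      have e2 : -(c₃ • T' ^ 3 + c₂ • T' ^ 2 + c₁ • T' + (-b ^ 2) • (1 : End F V)) + c₃ • T' ^ 3 + c₂ • T' ^ 2 +
          c₁ • T' = b ^ 2 • 1 := by
        module
      rw [e2, ← mul_smul]
      congr 1
      field_simp
    ext x
    apply hinj'
    exact LinearMap.congr_fun e5 x
  obtain ⟨e, he1, he2⟩ := exists_equiv hV hφ hrec hrec' hp
  refine ⟨T', ⟨e, ?_, he2⟩, hTT'⟩
  -- the determinant
  let B : Basis (Fin 4) F V := finBasisOfFinrankEq F V hV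
  let R : End F V → Matrix (Fin 4) (Fin 4) F := fun S => LinearMap.toMatrix B (Pi.basisFun F (Fin 4)) (Ph φ S)
  have hRe : R T' * LinearMap.toMatrix B B (e : V →ₗ[F] V) = R T := by
    show LinearMap.toMatrix B (Pi.basisFun F (Fin 4)) (Ph φ T') * LinearMap.toMatrix B B (e : V →ₗ[F] V) =
      LinearMap.toMatrix B (Pi.basisFun F (Fin 4)) (Ph φ T)
    rw [← LinearMap.toMatrix_comp]
    congr 1
    exact LinearMap.ext he1
  have hdetT : (R T).det ≠ 0 := by
    have i1 : Function.Injective (Ph φ T) := Ph_injective hφ hrec (p := X) (by rw [aeval_X])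
    have hd : finrank F V = finrank F (Fin 4 → F) := by rw [hV, finrank_fin_fun]
    exact ((LinearEquiv.ofInjectiveOfFinrankEq (Ph φ T) i1 hd).isUnit_det B (Pi.basisFun F (Fin 4))).ne_zero
  have hRT : (R T').det = (R T).det := by
    -- reverse the rows
    have h6 : ((R T').submatrix (Fin.revPerm : Equiv.Perm (Fin 4)) id) * LinearMap.toMatrix B B (T ^ 3) =
        Matrix.diagonal (fun i : Fin 4 => b ^ (3 - (i : ℕ))) * R T := by
      ext i j
      rw [Matrix.diagonal_mul]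
      have h7 : ((R T').submatrix (Fin.revPerm : Equiv.Perm (Fin 4)) id) * LinearMap.toMatrix B B (T ^ 3) =
          (R T' * LinearMap.toMatrix B B (T ^ 3)).submatrix (Fin.revPerm : Equiv.Perm (Fin 4)) id := by
        rfl
      have h8 : R T' * LinearMap.toMatrix B B (T ^ 3) =
          LinearMap.toMatrix B (Pi.basisFun F (Fin 4)) (Ph φ T' ∘ₗ (T ^ 3 : End F V)) := by
        rw [LinearMap.toMatrix_comp B B]
      rw [h7, h8, Matrix.submatrix_apply, LinearMap.toMatrix_apply, id, Pi.basisFun_repr, LinearMap.comp_apply,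
        Ph_apply]
      show _ = b ^ (3 - (i : ℕ)) * LinearMap.toMatrix B (Pi.basisFun F (Fin 4)) (Ph φ T) i j
      rw [LinearMap.toMatrix_apply, Pi.basisFun_repr, Ph_apply]
      have h9 : (T' ^ (3 - (i : ℕ))) * T ^ 3 = b ^ (3 - (i : ℕ)) • T ^ (i : ℕ) := by
        have : T ^ 3 = T ^ (3 - (i : ℕ)) * T ^ (i : ℕ) := by
          rw [← pow_add]
          congr 1
          omega
        rw [this, ← mul_assoc, ← hcomm.symm.mul_pow, hT'T, _root_.smul_pow, one_pow, smul_mul_assoc, one_mul]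
      have h10 : ((Fin.revPerm : Equiv.Perm (Fin 4)) i : ℕ) = 3 - (i : ℕ) := by
        rw [Fin.revPerm_apply, Fin.val_rev]
        omega
      rw [h10]
      have h11 := LinearMap.congr_fun h9 (B j)
      rw [Module.End.mul_apply, LinearMap.smul_apply] at h11
      rw [h11, map_smul, smul_eq_mul]
    have h7 := congrArg Matrix.det h6
    rw [Matrix.det_mul, Matrix.det_mul, Matrix.det_permute, Matrix.det_diagonal, LinearMap.det_toMatrix, map_pow,
      hdet] at h7
    have h8 : Equiv.Perm.sign (Fin.revPerm : Equiv.Perm (Fin 4)) = 1 := by decide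
    rw [h8] at h7
    have h9 : ∏ i : Fin 4, b ^ (3 - (i : ℕ)) = b ^ 6 := by
      rw [Fin.prod_univ_four]
      simp only [Fin.val_zero, Fin.val_one, Fin.val_two]
      norm_num
      ring
    rw [h9] at h7
    have h10 : b ^ 6 ≠ 0 := pow_ne_zero _ hb
    apply mul_left_cancel₀ h10
    rw [← h7]
    push_cast
    ring
  have h12 := congrArg Matrix.det hRe
  rw [Matrix.det_mul, hRT, LinearMap.det_toMatrix] at h12
  exact mul_left_cancel₀ hdetT (h12.trans (mul_one _).symm)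

/-- second statement -/
theorem sims_sq_zero [FiniteDimensional F V] (hV : finrank F V = 4) {N : End F V} (hN : N * N = 0)
    (hr : finrank F (LinearMap.range N) = 2) (l : F) : SimS (l • (1 + N)) (l • (1 - N)) := by
  have hrn := LinearMap.finrank_range_add_finrank_ker N
  rw [hr, hV] at hrn
  have hk : finrank F (LinearMap.ker N) = 2 := by omega
  have hNk : ∀ x, N x ∈ LinearMap.ker N := fun x => LinearMap.mem_ker.2 (LinearMap.congr_fun hN x)
  obtain ⟨D, hD⟩ := Submodule.exists_isCompl (LinearMap.ker N)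
  let f := Submodule.prodEquivOfIsCompl (LinearMap.ker N) D hD
  let e₀ : ((LinearMap.ker N) × D) ≃ₗ[F] ((LinearMap.ker N) × D) :=
    LinearEquiv.prodCongr (LinearEquiv.neg F) (LinearEquiv.refl F D)
  let e : V ≃ₗ[F] V := (f.symm.trans e₀).trans f
  have hk' : ∀ x ∈ LinearMap.ker N, e x = -x := by
    intro x hx
    show f (e₀ (f.symm x)) = -x
    have h1 : f.symm x = (⟨x, hx⟩, 0) := Submodule.prodEquivOfIsCompl_symm_apply_left _ _ hD ⟨x, hx⟩
    rw [h1]
    show f (-⟨x, hx⟩, 0) = -x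
    rw [Submodule.coe_prodEquivOfIsCompl']
    simp
  have hd' : ∀ x ∈ D, e x = x := by
    intro x hx
    show f (e₀ (f.symm x)) = x
    have h1 : f.symm x = (0, ⟨x, hx⟩) := Submodule.prodEquivOfIsCompl_symm_apply_right _ _ hD ⟨x, hx⟩
    rw [h1]
    show f (-0, ⟨x, hx⟩) = x
    rw [Submodule.coe_prodEquivOfIsCompl']
    simp
  refine ⟨e, ?_, ?_⟩
  · have h1 : (e : V →ₗ[F] V) = ((f : ((LinearMap.ker N) × D) →ₗ[F] V) ∘ₗ
        (e₀ : ((LinearMap.ker N) × D) →ₗ[F] ((LinearMap.ker N) × D)) ∘ₗ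
        (f.symm : V →ₗ[F] ((LinearMap.ker N) × D))) := rfl
    rw [h1, LinearMap.det_conj]
    have h2 : (e₀ : ((LinearMap.ker N) × D) →ₗ[F] ((LinearMap.ker N) × D)) =
        LinearMap.prodMap ((-1 : F) • LinearMap.id) LinearMap.id := by
      ext x <;> simp [e₀]
    rw [h2, LinearMap.det_prodMap, LinearMap.det_smul, hk, LinearMap.det_id, LinearMap.det_id]
    norm_num
  · intro x
    obtain ⟨k, hkk, d, hdd, rfl⟩ : ∃ k ∈ LinearMap.ker N, ∃ d ∈ D, k + d = x := by
      have : x ∈ LinearMap.ker N ⊔ D := by rw [hD.sup_eq_top]; trivial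
      exact Submodule.mem_sup.1 this
    have hk0 : N k = 0 := LinearMap.mem_ker.1 hkk
    have hN2 : e (N d) = -N d := hk' _ (hNk d)
    simp only [LinearMap.smul_apply, LinearMap.add_apply, LinearMap.sub_apply, Module.End.one_apply, map_add, map_smul,
      hk' k hkk, hd' d hdd, hk0, hN2, map_neg, map_zero]
    module

end Cfsg.Agent.H446.CovReal
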