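import Cfsg.Agent.H404.Avg.Good
import Cfsg.Agent.H113.PSL.Main
import Cfsg.Agent.S2601

/-!
# `Good p (PSL_n(q))`, `n ≥ 3` (helper446, for S4831)
-/

set_option autoImplicit false
set_option linter.unusedSectionVars false

namespace Cfsg.Agent.H446.GoodPsl

open Cfsg Matrix Cfsg.Agent.H404.Avg
open Cfsg.Agent.H671.H5 Cfsg.Agent.H113.PSL.Degrees Cfsg.Agent.H113.PSL.Facts

universe u

variable {F : Type u} [Field F] [Fintype F]

local notation "𝔮" => Fintype.card F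

/-- `|Out PSL_n(q)| ≤ 2 f (q - 1) < 4 (q - 1) ^ 2` -/
theorem card_out_lt {n : ℕ} (hn : 3 ≤ n) :
    Nat.card (Cfsg.Out (ProjectiveSpecialLinearGroup (Fin n) F)) < (2 * (𝔮 - 1)) ^ 2 := by
  obtain ⟨r, hr⟩ := CharP.exists F
  have hrp : Fact r.Prime := ⟨CharP.char_is_prime F r⟩
  obtain ⟨f, -, hf⟩ := FiniteField.card F r
  obtain ⟨φ, hφ, -, hk⟩ := Cfsg.Agent.S2601.result (F := F) (p := r) (f := f) (n := n) f.pos hf hn
  have h1 := φ.ker.card_mul_index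
  have hc : Nat.card (Multiplicative (ZMod f × ZMod 2)) = f * 2 := by
    rw [Nat.card_congr Multiplicative.toAdd, Nat.card_prod, Nat.card_zmod, Nat.card_zmod]
  rw [Subgroup.index_ker, MonoidHom.range_eq_top.2 hφ, Subgroup.card_top, hk, hc, ← hf] at h1
  have hq : 1 < 𝔮 := Fintype.one_lt_card
  have h2 : Nat.gcd n (𝔮 - 1) ≤ 𝔮 - 1 := Nat.gcd_le_right _ (by omega)
  have h3 : (f : ℕ) < 𝔮 := by
    rw [hf]
    exact Nat.lt_pow_self hrp.out.one_lt
  rw [← h1]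
  obtain ⟨x, hx⟩ : ∃ x, 𝔮 = x + 1 := ⟨𝔮 - 1, by omega⟩
  rw [hx] at h2 h3 ⊢
  rw [Nat.add_sub_cancel] at h2 ⊢
  have hx0 : 0 < x := by omega
  calc Nat.gcd n x * ((f : ℕ) * 2) ≤ x * (x * 2) := Nat.mul_le_mul h2 (Nat.mul_le_mul_right 2 (by omega))
    _ < (2 * x) ^ 2 := by nlinarith

theorem sq_le_pow {i : ℕ} (hi : 2 ≤ i) : 𝔮 ^ 2 - 1 ≤ 𝔮 ^ i - 1 :=
  Nat.sub_le_sub_right (Nat.pow_le_pow_right (by have := one_lt_q (F := F); omega) hi) 1

theorem pow_pos' {i : ℕ} (hi : 1 ≤ i) : 0 < 𝔮 ^ i - 1 := by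
  have h1 := one_lt_q (F := F)
  have h2 : 𝔮 ^ 1 ≤ 𝔮 ^ i := Nat.pow_le_pow_right (by omega) hi
  rw [pow_one] at h2
  omega

theorem le_pow {i p : ℕ} (hi : 2 ≤ i) (hp : p.Prime) (h : p ∣ 𝔮 ^ i - 1) : p * (𝔮 - 1) ≤ 𝔮 ^ i - 1 := by
  have hq := one_lt_q (F := F)
  have hg := geom (F := F) i
  have hpos := pow_pos' (F := F) (i := i) (by omega)
  have h0 : 0 < ∑ j ∈ Finset.range i, 𝔮 ^ j := by
    rcases Nat.eq_zero_or_pos (∑ j ∈ Finset.range i, 𝔮 ^ j) with h | h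
    · rw [h, zero_mul] at hg; omega
    · exact h
  have h1 := h
  rw [← hg, hp.dvd_mul] at h1
  rcases h1 with h1 | h1
  · rw [← hg]
    exact Nat.mul_le_mul_right _ (Nat.le_of_dvd h0 h1)
  · refine le_trans ?_ (sq_le_pow (F := F) hi)
    refine le_trans (Nat.mul_le_mul_right _ (Nat.le_of_dvd (by omega) h1)) ?_
    obtain ⟨x, hx⟩ : ∃ x, 𝔮 = x + 1 := ⟨𝔮 - 1, by omega⟩
    rw [hx, Nat.add_sub_cancel]
    have : (x + 1) ^ 2 - 1 = x * (x + 2) := by
      have : (x + 1) ^ 2 = x * (x + 2) + 1 := by ring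
      omega
    rw [this]
    exact Nat.mul_le_mul_left _ (by omega)

theorem prod_pos' (k : ℕ) : 0 < ∏ i ∈ Finset.range k, (𝔮 ^ (i + 2) - 1) :=
  Finset.prod_pos fun i _ => pow_pos' (by omega)

theorem le_prod {k j : ℕ} (hj : j < k) : 𝔮 ^ (j + 2) - 1 ≤ ∏ i ∈ Finset.range k, (𝔮 ^ (i + 2) - 1) :=
  Nat.le_of_dvd (prod_pos' k) (Finset.dvd_prod_of_mem (fun i => 𝔮 ^ (i + 2) - 1) (Finset.mem_range.2 hj))

theorem t_le {n t : ℕ} (ht : t ∣ Nat.gcd n (𝔮 - 1)) : t ≤ 𝔮 - 1 := by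
  have hq := one_lt_q (F := F)
  exact Nat.le_of_dvd (by omega) (ht.trans (Nat.gcd_dvd_right _ _))

theorem t_pos {n t : ℕ} (ht : t ∣ Nat.gcd n (𝔮 - 1)) : 0 < t := by
  have hq := one_lt_q (F := F)
  refine Nat.pos_of_ne_zero ?_
  rintro rfl
  have h1 := Nat.eq_zero_of_zero_dvd ht
  have h2 := Nat.gcd_eq_zero_iff.1 h1
  omega

/-- a character of degree divisible by `p` and at least `(q - 1) p` -/
theorem exists_big {n : ℕ} (hn : 3 ≤ n) {p : ℕ} (hp : p.Prime) (h5 : 5 ≤ p)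
    (hd : p ∣ Nat.card (ProjectiveSpecialLinearGroup (Fin n) F)) :
    ∃ φ : IrrCharacter (ProjectiveSpecialLinearGroup (Fin n) F),
      p ∣ charDegree (φ : ProjectiveSpecialLinearGroup (Fin n) F → ℂ) ∧
      (𝔮 - 1) * p ≤ charDegree (φ : ProjectiveSpecialLinearGroup (Fin n) F → ℂ) := by
  have hq := one_lt_q (F := F)
  have hC : ∀ m, 1 ≤ m → HasCusp F m := fun m hm => Cfsg.Agent.H113.PSL.Main.hasCusp F m hm
  -- case A
  have hA : IsA F n p → ∃ φ : IrrCharacter (ProjectiveSpecialLinearGroup (Fin n) F),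
      p ∣ charDegree (φ : ProjectiveSpecialLinearGroup (Fin n) F → ℂ) ∧
      (𝔮 - 1) * p ≤ charDegree (φ : ProjectiveSpecialLinearGroup (Fin n) F → ℂ) := by
    rintro ⟨i, hi, hin, hr⟩
    obtain ⟨φ, t, ht, hφ⟩ := exists_cusp (F := F) (n := n) (by omega) (hC n (by omega))
    have hP : ∏ i ∈ Finset.range (n - 1), (𝔮 ^ (i + 1) - 1) =
        (𝔮 - 1) * ∏ i ∈ Finset.range (n - 2), (𝔮 ^ (i + 2) - 1) := by
      obtain ⟨k, rfl⟩ : ∃ k, n = k + 2 := ⟨n - 2, by omega⟩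
      change ∏ i ∈ Finset.range (k + 1), _ = _
      rw [Finset.prod_range_succ', mul_comm]
      simp
    rw [hP] at hφ
    have hdvd := dvd_of_mul_eq (c := 𝔮 - 1) (by omega) (ht.trans (Nat.gcd_dvd_right _ _)) hφ
    -- an index at least two
    obtain ⟨j, hj2, hjn, hj⟩ : ∃ j, 2 ≤ j ∧ j < n ∧ p ∣ 𝔮 ^ j - 1 := by
      by_cases h1 : i = 1
      · subst h1
        rw [pow_one] at hr
        exact ⟨2, le_rfl, by omega, hr.trans (sub_one_dvd 2)⟩
      · exact ⟨i, by omega, hin, hr⟩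
    have hmem : 𝔮 ^ j - 1 ∣ ∏ i ∈ Finset.range (n - 2), (𝔮 ^ (i + 2) - 1) := by
      have h2 := Finset.dvd_prod_of_mem (fun j => 𝔮 ^ (j + 2) - 1)
        (Finset.mem_range.2 (show j - 2 < n - 2 by omega))
      have h3 : j - 2 + 2 = j := by omega
      simp only [h3] at h2
      exact h2
    refine ⟨φ, (hj.trans hmem).trans hdvd, ?_⟩
    have h1 := le_pow (F := F) hj2 hp hj
    have h2 := Nat.le_of_dvd (prod_pos' (F := F) (n - 2)) hmem
    refine Nat.le_of_mul_le_mul_right ?_ (t_pos ht)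
    rw [hφ, mul_assoc]
    refine Nat.mul_le_mul_left _ (le_trans (Nat.mul_le_mul_left _ (t_le ht)) (h1.trans h2))
  rcases cover hp hd with h | h | h
  · obtain ⟨φ, hφ⟩ := t3 (F := F) (n := n) (by omega)
    refine ⟨φ, ?_, ?_⟩
    · rw [hφ]; exact h.mul_right _
    · rw [hφ]
      have h1 : p ≤ 𝔮 := Nat.le_of_dvd (by omega) h
      have h2 : 𝔮 ≤ ∑ i ∈ Finset.range (n - 1), 𝔮 ^ i := by
        have := Finset.single_le_sum (f := fun i => 𝔮 ^ i) (fun i _ => Nat.zero_le _)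
          (Finset.mem_range.2 (show 1 < n - 1 by omega))
        simpa using this
      calc (𝔮 - 1) * p ≤ 𝔮 * 𝔮 := Nat.mul_le_mul (by omega) h1
        _ ≤ _ := Nat.mul_le_mul_left _ h2
  · exact hA h
  · rcases h with h | ⟨i, hi, hin, h⟩
    swap
    · exact hA ⟨i, hi, by omega, h⟩
    by_cases h1 : p ∣ 𝔮 - 1
    · exact hA ⟨1, le_rfl, by omega, by rwa [pow_one]⟩
    obtain ⟨m, rfl⟩ : ∃ m, n = m + 1 := ⟨n - 1, by omega⟩
    obtain ⟨φ, t, ht, hφ⟩ := t2 (F := F) (m := m) (by omega) (hC m (by omega))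
    have hdvd := dvd_of_mul_eq (c := 𝔮 - 1) (by omega) (ht.trans (Nat.gcd_dvd_right _ _)) hφ
    rw [← geom, hp.dvd_mul] at h
    have h2 : p ∣ ∑ i ∈ Finset.range (m + 1), 𝔮 ^ i := h.resolve_right h1
    have hs : 0 < ∑ i ∈ Finset.range (m + 1), 𝔮 ^ i := by
      apply Finset.sum_pos (fun i _ => pow_pos (by omega) _)
      exact ⟨0, Finset.mem_range.2 (by omega)⟩
    refine ⟨φ, (h2.trans (Dvd.intro _ rfl)).trans hdvd, ?_⟩
    refine Nat.le_of_mul_le_mul_right ?_ (t_pos ht)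
    rw [hφ, mul_assoc]
    apply Nat.mul_le_mul_left
    rcases Nat.lt_or_ge 2 m with hm | hm
    · refine Nat.mul_le_mul (Nat.le_of_dvd hs h2) ((t_le ht).trans ?_)
      refine le_trans ?_ (le_prod (F := F) (k := m - 2) (j := 0) (by omega))
      refine Nat.sub_le_sub_right ?_ 1
      calc 𝔮 = 𝔮 ^ 1 := (pow_one _).symm
        _ ≤ 𝔮 ^ (0 + 2) := Nat.pow_le_pow_right (by omega) (by norm_num)
    · have hm2 : m = 2 := by omega
      subst hm2
      simp only [Nat.sub_self, Finset.range_zero, Finset.prod_empty, mul_one]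
      have h3 : t ∣ 3 := ht.trans (Nat.gcd_dvd_left _ _)
      rcases (Nat.dvd_prime Nat.prime_three).1 h3 with rfl | rfl
      · rw [mul_one]
        exact Nat.le_of_dvd hs h2
      · have h4 : 3 ∣ 𝔮 - 1 := ht.trans (Nat.gcd_dvd_right _ _)
        have h6 : 3 ∣ ∑ i ∈ Finset.range (2 + 1), 𝔮 ^ i := by
          simp only [Finset.sum_range_succ, Finset.sum_range_zero, zero_add, pow_zero, pow_one]
          obtain ⟨k, hk⟩ := h4
          have : 𝔮 = 3 * k + 1 := by omega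
          rw [this]
          exact ⟨3 * k ^ 2 + 3 * k + 1, by ring⟩
        have h7 : Nat.Coprime p 3 := by
          rw [hp.coprime_iff_not_dvd]
          intro h8
          have := Nat.le_of_dvd (by norm_num) h8
          omega
        exact Nat.le_of_dvd hs (h7.mul_dvd_of_dvd_of_dvd h2 h6)

/-- **`Good p (PSL_n(q))`, `n ≥ 3`.** -/
theorem good_psl {n : ℕ} (hn : 3 ≤ n) [IsSimpleGroup (Matrix.ProjectiveSpecialLinearGroup (Fin n) F)]
    (hna : ¬ IsMulCommutative (Matrix.ProjectiveSpecialLinearGroup (Fin n) F)) {p : ℕ} (hp : p.Prime) (h5 : 5 ≤ p)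
    (hd : p ∣ Nat.card (Matrix.ProjectiveSpecialLinearGroup (Fin n) F))
    (_hOL : OutLin (Matrix.ProjectiveSpecialLinearGroup (Fin n) F)) :
    Good p (Matrix.ProjectiveSpecialLinearGroup (Fin n) F) := by
  obtain ⟨φ, h1, h2⟩ := exists_big hn hp h5 hd
  have hq := one_lt_q (F := F)
  refine good_of hna φ h1 (c := 2 * (𝔮 - 1) - 1) ?_ ?_
  · have h3 : 2 * (𝔮 - 1) - 1 + 1 = 2 * (𝔮 - 1) := by omega
    rw [h3]
    exact card_out_lt hn
  · have h3 : 2 * (𝔮 - 1) - 1 + 1 = 2 * (𝔮 - 1) := by omega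
    rw [h3, mul_assoc]
    exact Nat.mul_le_mul_left 2 h2

end Cfsg.Agent.H446.GoodPsl
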