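import Cfsg.Agent.H404.Avg.Good
import Cfsg.Agent.H69.OutTwD4
import Cfsg.Agent.S2127
import Cfsg.Agent.S2128
import Cfsg.Agent.H70.SzOut
import Cfsg.Agent.LieRecognition.FieldSemilinear

/-!
# `Out S` is cyclic for `³D₄(q)`, `Sz(q)`, `²G₂(q)`, `²F₄(q)` (helper446, for S4831)
-/

set_option autoImplicit false
set_option linter.unusedSectionVars false

namespace Cfsg.Agent.H446.OutIdxB

open Cfsg Cfsg.Agent.H404.Avg

universe u v

/-- a cyclic group of automorphisms mapping injectively to `Out S`, of the right order -/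
theorem outIdx_one {S : Type u} [Group S] [Finite S] {C : Type v} [Group C] [Finite C] [IsCyclic C]
    (Φ : C →* MulAut S) (hinj : ∀ c, Φ c ∈ Cfsg.Inn S → c = 1) (hc : Nat.card (Cfsg.Out S) = Nat.card C) :
    OutIdx S 1 := by
  obtain ⟨c, hgen⟩ := IsCyclic.exists_generator (α := C)
  let f : C →* Cfsg.Out S := (QuotientGroup.mk' (Cfsg.Inn S)).comp Φ
  have hf : Function.Injective f := by
    rw [injective_iff_map_eq_one]
    intro x hx
    exact hinj x ((QuotientGroup.eq_one_iff _).1 hx)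
  have hfs : Function.Surjective f := by
    have : Function.Bijective f := (Nat.bijective_iff_injective_and_card f).2 ⟨hf, hc.symm⟩
    exact this.2
  refine ⟨Φ c, ?_⟩
  have h1 : (MulAut.conj : S →* MulAut S).range ⊔ Subgroup.zpowers (Φ c) = ⊤ := by
    rw [eq_top_iff]
    intro ψ _
    obtain ⟨x, hx⟩ := hfs (QuotientGroup.mk ψ)
    have h2 : (Φ x)⁻¹ * ψ ∈ Cfsg.Inn S := QuotientGroup.eq.1 hx
    obtain ⟨k, hk⟩ := Subgroup.mem_zpowers_iff.1 (hgen x)
    have h3 : Φ x ∈ Subgroup.zpowers (Φ c) := by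
      rw [← hk, map_zpow]
      exact Subgroup.zpow_mem_zpowers _ _
    have h4 : ψ = Φ x * ((Φ x)⁻¹ * ψ) := by group
    rw [h4]
    exact mul_mem ((le_sup_right : _ ≤ (MulAut.conj : S →* MulAut S).range ⊔ Subgroup.zpowers (Φ c)) h3)
      ((le_sup_left : _ ≤ (MulAut.conj : S →* MulAut S).range ⊔ Subgroup.zpowers (Φ c)) h2)
  rw [h1, Subgroup.index_top]

/-! ### `Sz(q)` -/

theorem idx_sz {S : Type u} [Group S] [Finite S] (h : Cfsg.Lie.IsoSuzuki S) : OutIdx S 1 := by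
  obtain ⟨F, _, _, m, hm, hF, ⟨e⟩⟩ := h
  have : Fact (Nat.Prime 2) := ⟨Nat.prime_two⟩
  have hcyc : IsCyclic (F ≃+* F) := Cfsg.Agent.LieRecognition.FieldSemilinear.isCyclic_ringAut F
  have hfin : Finite (F ≃+* F) := DFunLike.finite _
  refine OutIdx.congr (outIdx_one (C := F ≃+* F) (H70.SzOut.fieldAut (LieRecognition.SzMatrix.good hF)) ?_ ?_) e.symm
  · rintro c ⟨g, hg⟩
    exact H70.SzOut.eq_one_of_conj _ hg.symm
  · rw [H70.SzOut.card_out hm hF]
    exact (Cfsg.Agent.Lib.FieldAutCard.card_ringAut (by omega) hF).symm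

/-! ### the other twisted groups -/

section fld

open Cfsg.Lie Cfsg.Agent.ChevStructure.FieldMap

variable {K : Type u} [Field K]

/-- the field automorphisms of `²G₂` -/
noncomputable def fldRee (e : ℕ) : (K ≃+* K) →* MulAut ↥(twistedG2 K e) where
  toFun τ := S2127.fld τ e
  map_one' := by
    ext1 g
    apply Subtype.ext
    rw [S2127.coe_fld, MulAut.one_apply]
    exact CpAut.RgdTwStd.glE_one _
  map_mul' τ σ := by
    ext1 g
    apply Subtype.ext
    rw [S2127.coe_fld, MulAut.mul_apply, S2127.coe_fld, S2127.coe_fld]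
    exact CpAut.RgdTwStd.glE_mul _ _ _

/-- the field automorphisms of `²F₄` -/
noncomputable def fldF4 (e : ℕ) : (K ≃+* K) →* MulAut ↥(twistedF4 K e) where
  toFun τ := S2128.fld τ e
  map_one' := by
    ext1 g
    apply Subtype.ext
    rw [S2128.coe_fld, MulAut.one_apply]
    exact CpAut.RgdTwStd.glE_one _
  map_mul' τ σ := by
    ext1 g
    apply Subtype.ext
    rw [S2128.coe_fld, MulAut.mul_apply, S2128.coe_fld, S2128.coe_fld]
    exact CpAut.RgdTwStd.glE_mul _ _ _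

/-- the field automorphisms of `³D₄` -/
noncomputable def fldD4 (q : ℕ) : (K ≃+* K) →* MulAut ↥(twistedD4 K q) where
  toFun τ := H69.OutTwD4.st q τ
  map_one' := by
    ext1 g
    apply Subtype.ext
    rw [H69.OutTwD4.st, CpAut.RgdTwStd.coe_fldG, MulAut.one_apply]
    exact CpAut.RgdTwStd.glE_one _
  map_mul' τ σ := by
    ext1 g
    apply Subtype.ext
    rw [H69.OutTwD4.st, H69.OutTwD4.st, H69.OutTwD4.st, CpAut.RgdTwStd.coe_fldG, MulAut.mul_apply,
      CpAut.RgdTwStd.coe_fldG, CpAut.RgdTwStd.coe_fldG]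
    exact CpAut.RgdTwStd.glE_mul _ _ _

end fld

section ree

open Cfsg.Lie Cfsg.Agent.ChevStructure.FieldMap Cfsg.Agent.ChevalleyStructure.Ree.Gens
  Cfsg.Agent.ChevalleyStructure.Ree.Checks Cfsg.Agent.ChevalleyStructure.Ree.Normal
  Cfsg.Agent.ChevalleyStructure.Ree Cfsg.Agent.H71 Cfsg.Agent.LieRecognition

theorem eq_one_of_conj {K : Type v} [Field K] [Fintype K] {G : Type u} [Group G]
    {m : ℕ} {U : K → K → K → G} {h : Kˣ → G} {n : G} {D : ReeAbs.Data m U h n} {Φ : (K ≃+* K) → MulAut G}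
    (F : ReeOut.Fld D Φ) {τ : K ≃+* K} {g : G} (hg : MulAut.conj g = Φ τ) : τ = 1 := by
  have h1 : MulAut.conj g ∈ ReeOut.Fr D := by
    rw [hg]
    exact F.mem τ
  obtain ⟨a, rfl⟩ := (ReeOut.conj_mem_iff D g).1 h1
  have e1 : ∀ t : K, (a : K) ^ (3 ^ (m + 1)) * t = τ t := by
    intro t
    have h2 := congrArg (fun β : MulAut G => β (U t 0 0)) hg
    simp only [MulAut.conj_apply, F.onU, ReeOut.h_U_inv D] at h2
    exact (Cfsg.Agent.LieRecognition.ReeSylowThree.U_injective D h2).1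
  have e2 := e1 1
  rw [mul_one, map_one] at e2
  ext t
  rw [← e1, e2, one_mul]
  rfl

theorem idx_ree {S : Type u} [Group S] [Finite S] (h : Cfsg.Lie.IsoRee S) : OutIdx S 1 := by
  obtain ⟨K, _, _, m, hm, hK, ⟨e⟩⟩ := h
  have : Fact (Nat.Prime 3) := ⟨Nat.prime_three⟩
  have hcyc : IsCyclic (K ≃+* K) := Cfsg.Agent.LieRecognition.FieldSemilinear.isCyclic_ringAut K
  have hfin : Finite (K ≃+* K) := DFunLike.finite _
  obtain ⟨θ, c⟩ := exists_ctx hK
  have F : ReeOut.Fld (Data.data c) (fun τ => S2127.fld τ (3 ^ m)) := by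
    refine ⟨?_, ?_, ?_⟩
    · intro τ t u v
      apply Subtype.ext
      rw [S2127.coe_fld]
      exact S2127.glE_wU τ _ _ _ _
    · intro τ a
      apply Subtype.ext
      rw [S2127.coe_fld]
      exact S2127.glE_tU τ _ _
    · intro τ
      apply Subtype.ext
      rw [S2127.coe_fld]
      exact S2127.glE_nU τ
  have hG : Finite ↥(twistedG2 K (3 ^ m)) := inferInstance
  refine OutIdx.congr (outIdx_one (C := K ≃+* K) (fldRee (3 ^ m)) ?_ ?_) e.symm
  · rintro τ ⟨g, hg⟩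
    have h1 : MulAut.conj g ∈ ReeOut.Fr (Data.data c) := by
      rw [hg]
      exact F.mem τ
    exact eq_one_of_conj F hg
  · rw [ReeOut.card_out hm hK F]
    exact (Cfsg.Agent.Lib.FieldAutCard.card_ringAut (by omega) hK).symm

end ree

section twF4

open Cfsg.Lie Cfsg.Agent.ChevStructure.FieldMap Cfsg.Agent.ChevalleyStructure.TwF4.Rel
  Cfsg.Agent.ChevalleyStructure.TwF4.TwistedFix Cfsg.Agent.Octagon.KRel Cfsg.Agent.KFacts.TwF4.Inst
  Cfsg.Agent.KFacts.TwF4 Cfsg.Agent.TitsThree.RankTwoZ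

theorem idx_2f4 {S : Type u} [Group S] [Finite S] (h : Cfsg.Lie.Iso2F4 S) : OutIdx S 1 := by
  obtain ⟨K, _, _, m, hm, hK, ⟨e⟩⟩ := h
  have hf2 : Fact (Nat.Prime 2) := ⟨Nat.prime_two⟩
  have hch : CharP K 2 := Cfsg.Agent.ChevalleyStructure.TwF4.Twisted.charP_two hK
  have hcyc : IsCyclic (K ≃+* K) := Cfsg.Agent.LieRecognition.FieldSemilinear.isCyclic_ringAut K
  have hfin : Finite (K ≃+* K) := DFunLike.finite _
  obtain ⟨φ, hφ⟩ := exists_rln hK
  have hG : Finite ↥(twistedF4 K (2 ^ m)) := inferInstance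
  refine OutIdx.congr (outIdx_one (C := K ≃+* K) (fldF4 (2 ^ m)) ?_ ?_) e.symm
  · rintro τ ⟨g, hg⟩
    have hg' : MulAut.conj g = S2128.fld τ (2 ^ m) := hg
    have h1 := S2128.eq_one_of_conj (full hK hφ) (g := g) (τ := τ) (fun a t => by
        rw [← MulAut.conj_apply, hg']
        exact S2128.fld_ro τ hφ a t) (fun a p u => by
        rw [← MulAut.conj_apply, hg']
        exact S2128.fld_re τ hφ a p u)
    ext t
    exact h1 t
  · rw [S2128.result hm hK]
    exact (Cfsg.Agent.Lib.FieldAutCard.card_ringAut (p := 2) (by omega) hK).symm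

end twF4

section twD4

open CoxeterSystem Cfsg.Agent.ChevalleyStructure.CoxeterGeom Cfsg.Agent.Tits.Roots Cfsg.Agent.Tits.Core
  Cfsg.Agent.Tits.Exchange Cfsg.Agent.Nodes.Reps Cfsg.Agent.Nodes.BNOf Cfsg.Agent.Nodes.StabComb
  Cfsg.Agent.Nodes.Bruhat Cfsg.Agent.Nodes.OppDec Cfsg.Agent.Nodes.RGDTwGen Cfsg.Agent.Nodes.RGDChev
  Cfsg.Agent.Nodes.RGDFold Cfsg.Agent.Nodes.RGDFoldSL
open Cfsg.Agent.KFacts.RgdOpp Cfsg.Agent.KFacts.RgdAut Cfsg.Agent.KFacts.RgdDiag Cfsg.Agent.KFacts.RgdRigid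
  Cfsg.Agent.KFacts.RgdField Cfsg.Agent.KFacts.RgdTau Cfsg.Agent.KFacts.RgdNodes
open Cfsg.Lie Cfsg.Agent.ChevalleyStructure Cfsg.Agent.ChevalleyStructure.Elts Cfsg.Agent.ChevStructure.FieldMap
open Cfsg.Agent.ChevalleyStructure.SL2Hom (up lo)
open Cfsg.Agent.KFacts.TwDFour.Out
open Cfsg.Agent.Nodes.RGDTwD4 Cfsg.Agent.Nodes.RGDTwNode.D4
open Cfsg.Agent.ParSys.Fam.D4 (hf)
open Cfsg.Agent.CpAut.RgdTwStd
open Cfsg.Agent.H69.OutCount Cfsg.Agent.H69.OutTwD4

theorem idx_3d4 {S : Type u} [Group S] [Finite S] (h : Cfsg.Lie.Iso3D4 S) : OutIdx S 1 := by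
  obtain ⟨K, _, _, q, hq, hK, ⟨e⟩⟩ := h
  have hcyc : IsCyclic (K ≃+* K) := Cfsg.Agent.LieRecognition.FieldSemilinear.isCyclic_ringAut K
  have hfin : Finite (K ≃+* K) := DFunLike.finite _
  obtain ⟨p, hp⟩ := CharP.exists K
  have hpf : Fact p.Prime := ⟨CharP.char_is_prime K p⟩
  have hG : Finite ↥(twistedD4 K q) := inferInstance
  obtain ⟨φ, hφ⟩ := D4Fixed.exists_frob hq hK
  let cs : CoxeterSystem CoxeterMatrix.G₂ CoxeterMatrix.G₂.Group := CoxeterMatrix.G₂.toCoxeterSystem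
  have hfinW : Finite CoxeterMatrix.G₂.Group := finiteW cs
  have R := Cfsg.Agent.Nodes.RGDTwD4.rgd cs hK hφ p
  have hG1 : RGD.Sup (X φ q) {x | IsRoot cs isCartan x} = ⊤ := G1_eq_top cs hK hφ
  refine OutIdx.congr (outIdx_one (C := K ≃+* K) (fldD4 q) ?_ ?_) e.symm
  · rintro τ ⟨g, hg⟩
    have hg' : MulAut.conj g = st q τ := hg
    have h1 : DTau hφ hK (st q τ) τ := dtau_st hφ hK τ cs p
    have h2 : Diag (T K q) (X φ q) (MulAut.conj g) 1 := by
      rw [hg']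
      exact h1.diag
    have h3 : g ∈ T K q := mem_T_of_diag R hG1 h2
    have h4 := dtau_conj hφ hK cs p h3
    rw [hg'] at h4
    exact h1.unique hφ hK h4
  · exact card_out hq hK p

end twD4

end Cfsg.Agent.H446.OutIdxB
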