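import Mathlib
import Cfsg.Prelude.Def_Transfer
import Cfsg.Agent.Lib.FrattiniPGroup
import Cfsg.Agent.OddOrderLocal.ExtraspecialCycle
import Cfsg.Agent.OddOrderLocal.FrobAct

set_option autoImplicit false

/-!
# Extraspecial groups: transport along isomorphisms, a recognition lemma, and fixed points of a
cyclic group acting on an extraspecial group which acts on an elementary abelian group.
-/

namespace Cfsg.Agent.H446.ExtraAct

/-- Recognition of extraspecial groups. -/
theorem isExtraspecial_of {q : ℕ} [Fact q.Prime] {P : Type*} [Group P] [Finite P]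
    (hP : IsPGroup q P) (h1 : _root_.commutator P = Subgroup.center P)
    (h2 : ∀ y : P, y ^ q ∈ Subgroup.center P) (h3 : Nat.card (Subgroup.center P) = q) :
    Cfsg.IsExtraspecial q P := by
  refine ⟨⟨hP, ?_, h1⟩, h3⟩
  apply le_antisymm
  · refine Cfsg.Agent.Lib.FrattiniPGroup.frattini_le (p := q) (Subgroup.center P) ?_ h2
    intro x y
    rw [← h1]
    exact Subgroup.commutator_mem_commutator (Subgroup.mem_top x) (Subgroup.mem_top y)
  · rw [← h1]
    exact Cfsg.Agent.Lib.FrattiniPGroup.commutator_le_frattini hP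

theorem mem_center_equiv {P P' : Type*} [Group P] [Group P'] (e : P ≃* P') (x : P') :
    x ∈ Subgroup.center P' ↔ e.symm x ∈ Subgroup.center P := by
  rw [Subgroup.mem_center_iff, Subgroup.mem_center_iff]
  constructor
  · intro h g
    apply e.injective
    simpa using h (e g)
  · intro h g
    apply e.symm.injective
    simpa using h (e.symm g)

theorem mem_frattini_equiv {P P' : Type*} [Group P] [Group P'] (e : P ≃* P') (x : P') :
    x ∈ frattini P' ↔ e.symm x ∈ frattini P := by
  constructor
  · intro h
    exact frattini_le_comap_frattini_of_surjective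
      (φ := (e.symm : P' →* P)) e.symm.surjective h
  · intro h
    have h1 := frattini_le_comap_frattini_of_surjective (φ := (e : P →* P')) e.surjective h
    rw [Subgroup.mem_comap] at h1
    simpa using h1

theorem map_commutator_mem {A B : Type*} [Group A] [Group B] (f : A →* B) (y : A)
    (hy : y ∈ _root_.commutator A) : f y ∈ _root_.commutator B := by
  have h1 : (_root_.commutator A).map f ≤ _root_.commutator B := by
    rw [_root_.commutator_def, Subgroup.map_commutator, _root_.commutator_def]
    exact Subgroup.commutator_mono le_top le_top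
  exact h1 ⟨y, hy, rfl⟩

theorem mem_commutator_equiv {P P' : Type*} [Group P] [Group P'] (e : P ≃* P') (x : P') :
    x ∈ _root_.commutator P' ↔ e.symm x ∈ _root_.commutator P := by
  constructor
  · intro h
    exact map_commutator_mem (e.symm : P' →* P) x h
  · intro h
    have := map_commutator_mem (e : P →* P') _ h
    simpa using this

/-- Extraspeciality is invariant under isomorphism. -/
theorem isExtraspecial_of_equiv {q : ℕ} {P P' : Type*} [Group P] [Group P'] (e : P ≃* P')
    (h : Cfsg.IsExtraspecial q P) : Cfsg.IsExtraspecial q P' := by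
  obtain ⟨⟨h1, h2, h3⟩, h4⟩ := h
  refine ⟨⟨h1.of_equiv e, ?_, ?_⟩, ?_⟩
  · ext x
    rw [mem_frattini_equiv e, h2, ← mem_center_equiv]
  · ext x
    rw [mem_commutator_equiv e, h3, ← mem_center_equiv]
  · rw [← h4]
    exact (Nat.card_congr (Subgroup.centerCongr e).toEquiv).symm

/-- B&G Theorem 2.5 for actions on elementary abelian groups: a cyclic group `R` acting on an
extraspecial `q`-group `P` of order `q ^ (2 n + 1)` with `C_P(x) = Z(P)` for `1 ≠ x ∈ R`,
`P R` acting on the elementary abelian `p`-group `V` with `Z(P)` acting nontrivially. If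
`|R| ≠ q ^ n + 1`, then `R` has a nontrivial fixed point on `V`. -/
theorem exists_fixed {p q : ℕ} [hp : Fact p.Prime] [hq : Fact q.Prime] (hpq : p ≠ q)
    {A : Type*} [Group A] [Finite A] {V : Type*} [CommGroup V] [Finite V] (hV : ∀ v : V, v ^ p = 1)
    (φ : A →* MulAut V) (P R : Subgroup A) (hP : Cfsg.IsExtraspecial q P) (n : ℕ)
    (hn : Nat.card P = q ^ (2 * n + 1)) (hR : R ≤ Subgroup.normalizer (P : Set A))
    (hRc : IsCyclic R) (hRq : (Nat.card R).Coprime q) (hRp : ¬ p ∣ Nat.card R)
    (hC : ∀ x ∈ R, x ≠ 1 →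
      P ⊓ Subgroup.centralizer ({x} : Set A) = P ⊓ Subgroup.centralizer (P : Set A))
    (z : A) (hz : z ∈ P ⊓ Subgroup.centralizer (P : Set A)) (hzφ : φ z ≠ 1)
    (hne : Nat.card R ≠ q ^ n + 1) : ∃ v : V, v ≠ 1 ∧ ∀ r ∈ R, φ r v = v := by
  let _inst : Module (ZMod p) (Additive V) := AddCommGroup.zmodModule (by
    intro a
    exact hV a.toMul)
  have hfinA : Finite (Additive V) := inferInstanceAs (Finite V)
  have hfd : @Module.Finite (ZMod p) (Additive V) _ _ _inst := Module.Finite.of_finite
  have hpF : ∀ n : ℕ, ¬ p ∣ n → (n : ZMod p) ≠ 0 := by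
    intro n hn h
    exact hn ((ZMod.natCast_eq_zero_iff n p).1 h)
  obtain ⟨v, hv, hv'⟩ :=
    @Cfsg.Agent.OddOrderLocal.ExtraspecialCycle.exists_fixed_of_extraspecial (ZMod p) _
      (Additive V) _ _inst hfd A _ _ q n _ P R hP hn hR hRc hRq hC
      (hpF _ (fun h => hpq ((Nat.prime_dvd_prime_iff_eq hp.out hq.out).1 h))) (hpF _ hRp)
      (Cfsg.Agent.OddOrderLocal.FrobAct.toRep p φ) z hz (by
        intro h
        apply hzφ
        ext v
        exact LinearMap.congr_fun h (Additive.ofMul v)) hne
  exact ⟨v.toMul, fun h => hv h, fun r hr => hv' r hr⟩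

end Cfsg.Agent.H446.ExtraAct
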