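import Cfsg.Agent.H902.Nice

/-!
# `|L_n(q)|` as a small multiple of `m! / 2` (helper446, for S3538)
-/

set_option autoImplicit false

namespace Cfsg.Agent.H446.AltNum

open Finset Cfsg.Agent.H902.Lte Cfsg.Agent.H902.Art

/-- `|L_n(q)|² ≤ (its `p`-part)⁵` for `n ≥ 4` -/
theorem sq_le_five {n p f M : ℕ} (hn : 4 ≤ n) (h : Real (.L n) p f M) : M ^ 2 ≤ (P p M) ^ 5 := by
  have hq := h.q_ge
  have h1 := h.M_le
  rw [h.P_self]
  set q := p ^ f with hqdef
  have h2 : (num (.L n) q) ^ 2 ≤ q ^ ((n - 1) * (n - 1 + 3)) := numL_sq_le (q := q) (n - 1)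
  have hNN : NN (.L n) = n * (n - 1) / 2 := rfl
  have hNN2 : 2 * NN (.L n) = n * (n - 1) := by rw [hNN, mul_comm 2]; exact two_mul_half n
  calc M ^ 2 ≤ (q ^ NN (.L n) * num (.L n) q) ^ 2 := Nat.pow_le_pow_left h1 2
    _ = (q ^ NN (.L n)) ^ 2 * (num (.L n) q) ^ 2 := mul_pow _ _ _
    _ ≤ (q ^ NN (.L n)) ^ 2 * q ^ ((n - 1) * (n - 1 + 3)) := Nat.mul_le_mul_left _ h2
    _ = q ^ (NN (.L n) * 2 + (n - 1) * (n - 1 + 3)) := by rw [← pow_mul, ← pow_add]
    _ ≤ q ^ (NN (.L n) * 5) := by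
        apply Nat.pow_le_pow_right (by omega)
        obtain ⟨k, rfl⟩ := Nat.exists_eq_add_of_le' hn
        have e1 : k + 4 - 1 = k + 3 := by omega
        rw [e1] at hNN2 ⊢
        have e2 : (k + 4) * (k + 3) = k ^ 2 + 7 * k + 12 := by ring
        have e3 : (k + 3) * (k + 3 + 3) = k ^ 2 + 9 * k + 18 := by ring
        rw [e2] at hNN2
        rw [e3]
        nlinarith
    _ = (q ^ NN (.L n)) ^ 5 := pow_mul _ _ _

/-- the `p`-part of a factorial -/
theorem P_fac {p m : ℕ} (hp : p.Prime) (hm : 1 ≤ m) : P p m.factorial ≤ 2 ^ (m - 1) := by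
  have h1 := val_factorial_le hp (a := m) (by omega)
  rw [P, Nat.factorization_def _ hp]
  have h2 : p ≤ 2 ^ (p - 1) := by
    obtain ⟨k, rfl⟩ := Nat.exists_eq_add_of_le' hp.one_le
    rw [Nat.add_sub_cancel]
    exact Nat.lt_two_pow_self
  calc p ^ padicValNat p m.factorial ≤ (2 ^ (p - 1)) ^ padicValNat p m.factorial := Nat.pow_le_pow_left h2 _
    _ = 2 ^ ((p - 1) * padicValNat p m.factorial) := by rw [← pow_mul]
    _ ≤ 2 ^ (m - 1) := Nat.pow_le_pow_right (by norm_num) h1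

theorem grow : ∀ j : ℕ, 2 ^ (8 * (j + 40) - 3) < ((j + 40).factorial) ^ 2 := by
  intro j
  induction j with
  | zero => decide +kernel
  | succ j ih =>
    have h1 : (j + 1 + 40).factorial = (j + 41) * (j + 40).factorial := by
      rw [show j + 1 + 40 = (j + 40) + 1 by ring, Nat.factorial_succ]
    rw [h1]
    generalize (j + 40).factorial = F at ih
    have h2 : 8 * (j + 1 + 40) - 3 = (8 * (j + 40) - 3) + 8 := by omega
    rw [h2]
    generalize 8 * (j + 40) - 3 = E at ih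
    calc 2 ^ (E + 8) = 256 * 2 ^ E := by rw [pow_add]; ring
      _ < 256 * F ^ 2 := Nat.mul_lt_mul_of_pos_left ih (by norm_num)
      _ ≤ (j + 41) ^ 2 * F ^ 2 := Nat.mul_le_mul_right _ (by nlinarith)
      _ = ((j + 41) * F) ^ 2 := by ring

/-- the finite check -/
theorem fin_check : ∀ p ∈ [2, 3, 5, 7, 11, 13, 17, 19, 23, 29, 31, 37], ∀ n ∈ List.range' 4 9, ∀ f ∈ List.range' 1 12,
    f * (n * (n - 1) / 2) ≤ 77 → ∀ m ∈ List.range' 5 35, p ≤ m → 2 * val p (.L n, f) % m.factorial = 0 →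
      2 * val p (.L n, f) ≤ 2 ^ m * m.factorial →
        (n = 4 ∧ p ^ f = 2) ∨ (m = 10 ∧ 2 * val p (.L n, f) = 544 * m.factorial ∧ n = 4 ∧ p ^ f = 4) := by
  decide +kernel

theorem pw (a b : ℕ) : (2 ^ b) ^ 3 * (4 * (2 ^ a) ^ 5) = 2 ^ (b * 3 + (2 + a * 5)) := by
  rw [pow_add, pow_add, pow_mul, pow_mul]
  norm_num

/-- **T3.** -/
theorem alt_num {n p f M m k : ℕ} (hn : 4 ≤ n) (h : Real (.L n) p f M) (hm : 5 ≤ m)
    (hM : 2 * M = k * m.factorial) (hk : k ≤ 2 ^ m) (hpm : p ≤ m) :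
    (n = 4 ∧ p ^ f = 2) ∨ (m = 10 ∧ k = 544 ∧ n = 4 ∧ p ^ f = 4) := by
  have hM0 := h.M_ne
  have hfac : m.factorial ≠ 0 := Nat.factorial_ne_zero m
  have hk0 : k ≠ 0 := by
    rintro rfl
    rw [zero_mul] at hM
    omega
  have h5 := sq_le_five hn h
  have hPM : P p M ≤ k * 2 ^ (m - 1) := by
    calc P p M ≤ P p (2 * M) := P_mono h.hp (by omega) (Dvd.intro_left 2 rfl)
      _ = P p k * P p m.factorial := by rw [hM, P_mul hk0 hfac]
      _ ≤ k * 2 ^ (m - 1) := Nat.mul_le_mul (P_le hk0) (P_fac h.hp (by omega))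
  -- `m ≤ 39`
  have hm39 : m ≤ 39 := by
    by_contra hcon
    obtain ⟨j, rfl⟩ := Nat.exists_eq_add_of_le' (show 40 ≤ m by omega)
    have h6 := grow j
    generalize (j + 40).factorial = F at h6 hM
    have h7 : (k * F) ^ 2 ≤ 4 * (k * 2 ^ (j + 40 - 1)) ^ 5 := by
      rw [← hM]
      calc (2 * M) ^ 2 = 4 * M ^ 2 := by ring
        _ ≤ 4 * (P p M) ^ 5 := Nat.mul_le_mul_left 4 h5
        _ ≤ 4 * (k * 2 ^ (j + 40 - 1)) ^ 5 := Nat.mul_le_mul_left 4 (Nat.pow_le_pow_left hPM 5)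
    have h8 : k ^ 2 * F ^ 2 ≤ k ^ 2 * 2 ^ (8 * (j + 40) - 3) := by
      calc k ^ 2 * F ^ 2 = (k * F) ^ 2 := by ring
        _ ≤ 4 * (k * 2 ^ (j + 40 - 1)) ^ 5 := h7
        _ = k ^ 2 * (k ^ 3 * (4 * (2 ^ (j + 40 - 1)) ^ 5)) := by ring
        _ ≤ k ^ 2 * ((2 ^ (j + 40)) ^ 3 * (4 * (2 ^ (j + 40 - 1)) ^ 5)) :=
            Nat.mul_le_mul_left _ (Nat.mul_le_mul_right _ (Nat.pow_le_pow_left hk 3))
        _ = k ^ 2 * 2 ^ (8 * (j + 40) - 3) := by
            have e1 : 8 * (j + 40) - 3 = (j + 40) * 3 + (2 + (j + 40 - 1) * 5) := by omega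
            rw [e1, pw]
    have h9 := Nat.le_of_mul_le_mul_left h8 (Nat.pos_of_ne_zero (pow_ne_zero 2 hk0))
    omega
  -- the exponent
  have hv : f * NN (.L n) ≤ 77 := by
    have h1 : 2 ^ (f * NN (.L n)) ≤ 2 ^ 77 := by
      calc 2 ^ (f * NN (.L n)) ≤ p ^ (f * NN (.L n)) := Nat.pow_le_pow_left h.hp.two_le _
        _ = P p M := by rw [h.P_self, pow_mul]
        _ ≤ k * 2 ^ (m - 1) := hPM
        _ ≤ 2 ^ m * 2 ^ (m - 1) := Nat.mul_le_mul_right _ hk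
        _ = 2 ^ (m + (m - 1)) := by rw [← pow_add]
        _ ≤ 2 ^ 77 := Nat.pow_le_pow_right (by norm_num) (by omega)
    exact (Nat.pow_le_pow_iff_right (by norm_num)).1 h1
  have hNN : NN (.L n) = n * (n - 1) / 2 := rfl
  rw [hNN] at hv
  have hf := h.hf
  have hn12 : n ≤ 12 := by
    by_contra hcon
    have h1 : 78 ≤ n * (n - 1) / 2 := by
      rw [Nat.le_div_iff_mul_le (by norm_num)]
      calc 78 * 2 = 13 * 12 := by norm_num
        _ ≤ n * (n - 1) := Nat.mul_le_mul (by omega) (by omega)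
    have h2 := Nat.mul_le_mul hf h1
    omega
  have hf12 : f ≤ 12 := by
    have h1 : 6 ≤ n * (n - 1) / 2 := by
      rw [Nat.le_div_iff_mul_le (by norm_num)]
      calc 6 * 2 = 4 * 3 := by norm_num
        _ ≤ n * (n - 1) := Nat.mul_le_mul (by omega) (by omega)
    have h2 := Nat.mul_le_mul_left f h1
    omega
  have hpl : p ∈ [2, 3, 5, 7, 11, 13, 17, 19, 23, 29, 31, 37] := by
    have h14 : p ≤ 39 := by omega
    have := h.hp
    interval_cases p <;> first | decide | (exfalso; revert this; decide)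
  have hval := val_eq h
  have h1 := fin_check p hpl n (by rw [List.mem_range'_1]; omega) f (by rw [List.mem_range'_1]; omega) hv m
    (by rw [List.mem_range'_1]; omega) hpm (by rw [hval, hM, Nat.mul_mod_left]) (by
      rw [hval, hM]
      exact Nat.mul_le_mul_right _ hk)
  rw [hval, hM] at h1
  rcases h1 with h1 | ⟨h1, h2, h3, h4⟩
  · exact Or.inl h1
  · exact Or.inr ⟨h1, Nat.eq_of_mul_eq_mul_right (Nat.pos_of_ne_zero hfac) h2, h3, h4⟩

end Cfsg.Agent.H446.AltNum
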