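import Mathlib
import Cfsg.Prelude.Def_Transfer
import Cfsg.Agent.Lib.CoprimeCommutator
import Cfsg.Agent.Lib.FrattiniPGroup
import Cfsg.Agent.OddOrderCharacters.PF11.Facts

set_option autoImplicit false

/-!
# Minimal nontrivial coprime actions on `q`-groups

`X` normalizes the finite `q`-group `K` (coprime orders), acts nontrivially on it, and trivially
on every proper `X`-invariant subgroup. Then `K = [K, X]`, and `K` is abelian with `C_K(X) = 1`, or
`C_K(X) = Z(K) = K' = Φ(K)` is elementary abelian.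
-/

namespace Cfsg.Agent.H446

open scoped commutatorElement

variable {G : Type*} [Group G]

theorem normalizer_le_normalizer_map {Q : Subgroup G} (K : Subgroup Q) (hK : K.Characteristic) :
    Subgroup.normalizer (Q : Set G) ≤ Subgroup.normalizer ((K.map Q.subtype : Subgroup G) : Set G) := by
  have key : ∀ g ∈ Subgroup.normalizer (Q : Set G), ∀ x ∈ K.map Q.subtype,
      g * x * g⁻¹ ∈ K.map Q.subtype := by
    rintro g hg _ ⟨x, hx, rfl⟩
    have h1 : K.map (Q.normalizerMonoidHom ⟨g, hg⟩).toMonoidHom = K :=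
      (Subgroup.characteristic_iff_map_eq.1 hK) _
    have h2 : (Q.normalizerMonoidHom ⟨g, hg⟩) x ∈ K := by
      rw [← h1]
      exact ⟨x, hx, rfl⟩
    exact ⟨_, h2, rfl⟩
  intro g hg
  rw [Subgroup.mem_normalizer_iff]
  intro x
  constructor
  · exact key g hg x
  · intro h
    have := key g⁻¹ (inv_mem hg) _ h
    have e : g⁻¹ * (g * x * g⁻¹) * g⁻¹⁻¹ = x := by group
    rwa [e] at this

/-- minimal nontrivial action -/
structure MinAct (X K : Subgroup G) : Prop where
  norm : X ≤ Subgroup.normalizer (K : Set G)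
  ntriv : ¬ X ≤ Subgroup.centralizer (K : Set G)
  min : ∀ L : Subgroup G, L ≤ K → L ≠ K → X ≤ Subgroup.normalizer (L : Set G) →
    X ≤ Subgroup.centralizer (L : Set G)

theorem exists_minAct [Finite G] {X Q : Subgroup G} (h1 : X ≤ Subgroup.normalizer (Q : Set G))
    (h2 : ¬ X ≤ Subgroup.centralizer (Q : Set G)) : ∃ K ≤ Q, MinAct X K := by
  obtain ⟨K, hK⟩ : ∃ K : Subgroup G, Minimal (fun K : Subgroup G => K ≤ Q ∧
      X ≤ Subgroup.normalizer (K : Set G) ∧ ¬ X ≤ Subgroup.centralizer (K : Set G)) K :=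
    (Set.toFinite {K : Subgroup G | K ≤ Q ∧
      X ≤ Subgroup.normalizer (K : Set G) ∧ ¬ X ≤ Subgroup.centralizer (K : Set G)}).exists_minimal
      ⟨Q, le_rfl, h1, h2⟩
  refine ⟨K, hK.prop.1, hK.prop.2.1, hK.prop.2.2, ?_⟩
  intro L hLK hne hXL
  by_contra hcon
  exact hne (le_antisymm hLK (hK.le_of_le ⟨hLK.trans hK.prop.1, hXL, hcon⟩ hLK))

namespace MinAct

variable [Finite G] {X K : Subgroup G}

theorem commutator_eq (h : MinAct X K) (hcop : (Nat.card X).Coprime (Nat.card K)) :
    ⁅K, X⁆ = K := by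
  by_contra hne
  have h1 := h.min ⁅K, X⁆ (Cfsg.Agent.Lib.CoprimeCommutator.commutator_le_left h.norm) hne
    (Cfsg.Agent.Lib.CoprimeCommutator.right_le_normalizer_commutator K X)
  exact h.ntriv (Cfsg.Agent.Lib.CoprimeCommutator.le_centralizer_of_commutator X K h.norm hcop h1)

/-- proper invariant subgroups normalized by `K` are central in `K` -/
theorem le_centralizer (h : MinAct X K) (hcop : (Nat.card X).Coprime (Nat.card K))
    {L : Subgroup G} (hLK : L ≤ K) (hne : L ≠ K) (hXL : X ≤ Subgroup.normalizer (L : Set G))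
    (hKL : K ≤ Subgroup.normalizer (L : Set G)) : L ≤ Subgroup.centralizer (K : Set G) := by
  have h1 := h.min L hLK hne hXL
  have h2 : ⁅X, L⁆ = ⊥ := Subgroup.commutator_eq_bot_iff_le_centralizer.2 h1
  have h3 : ⁅L, K⁆ ≤ L := Subgroup.le_normalizer_iff_commutator_le_left.1 hKL
  have h4 : ⁅⁅L, K⁆, X⁆ = ⊥ := by
    rw [eq_bot_iff, ← h2, Subgroup.commutator_comm X L]
    exact Subgroup.commutator_mono h3 le_rfl
  have h5 : ⁅⁅K, X⁆, L⁆ = ⊥ := by
    apply Subgroup.commutator_commutator_eq_bot_of_rotate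
    · rw [h2, Subgroup.commutator_bot_left]
    · exact h4
  rw [h.commutator_eq hcop, Subgroup.commutator_comm] at h5
  exact Subgroup.commutator_eq_bot_iff_le_centralizer.1 h5

theorem inf_centralizer_le (h : MinAct X K) (hcop : (Nat.card X).Coprime (Nat.card K)) :
    K ⊓ Subgroup.centralizer (X : Set G) ≤ ⁅K, K⁆ :=
  Cfsg.Agent.OddOrderCharacters.PF11.Facts.centralizer_le (D := Subgroup.normalizer (K : Set G))
    Subgroup.le_normalizer h.norm (fun _ hd x hx => (Subgroup.mem_normalizer_iff.1 hd x).1 hx)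
    hcop.symm (h.commutator_eq hcop).symm

theorem ne_bot (h : MinAct X K) : K ≠ ⊥ := by
  rintro rfl
  apply h.ntriv
  intro x _
  rw [Subgroup.mem_centralizer_iff]
  intro y hy
  rw [Subgroup.coe_bot, Set.mem_singleton_iff] at hy
  rw [hy, mul_one, one_mul]

/-- In the nonabelian case, the centre is centralized by `X`. -/
theorem inf_center_ne (hna : ¬ IsMulCommutative K) : K ⊓ Subgroup.centralizer (K : Set G) ≠ K := by
  intro h
  apply hna
  have h1 : K ≤ Subgroup.centralizer (K : Set G) := inf_eq_left.1 h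
  refine ⟨⟨fun a b => Subtype.ext ?_⟩⟩
  exact (Subgroup.mem_centralizer_iff.1 (h1 b.2) a a.2)

theorem le_normalizer_center {X K : Subgroup G} (h : X ≤ Subgroup.normalizer (K : Set G)) :
    X ≤ Subgroup.normalizer ((K ⊓ Subgroup.centralizer (K : Set G) : Subgroup G) : Set G) := by
  have h1 : K ⊓ Subgroup.centralizer (K : Set G) = (Subgroup.center K).map K.subtype := by
    ext g
    constructor
    · rintro ⟨hg, hg'⟩
      refine ⟨⟨g, hg⟩, ?_, rfl⟩
      rw [SetLike.mem_coe, Subgroup.mem_center_iff]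
      intro y
      exact Subtype.ext (Subgroup.mem_centralizer_iff.1 hg' y y.2)
    · rintro ⟨x, hx, rfl⟩
      refine ⟨x.2, Subgroup.mem_centralizer_iff.2 ?_⟩
      intro y hy
      exact congrArg Subtype.val (Subgroup.mem_center_iff.1 hx ⟨y, hy⟩)
  rw [h1]
  exact h.trans (normalizer_le_normalizer_map _ inferInstance)

theorem le_inf_centralizer (h : MinAct X K) (hna : ¬ IsMulCommutative K) :
    K ⊓ Subgroup.centralizer (K : Set G) ≤ K ⊓ Subgroup.centralizer (X : Set G) := by
  refine le_inf inf_le_left ?_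
  have := h.min _ inf_le_left (inf_center_ne hna) (le_normalizer_center h.norm)
  exact Subgroup.le_centralizer_iff.1 this

section pgroup

variable {q : ℕ} [Fact q.Prime]

/-- the Frattini subgroup is central -/
theorem frattini_le (h : MinAct X K) (hcop : (Nat.card X).Coprime (Nat.card K)) :
    (frattini K).map K.subtype ≤ Subgroup.centralizer (K : Set G) := by
  have hnt : Nontrivial K := (Subgroup.nontrivial_iff_ne_bot K).2 h.ne_bot
  have h1 : frattini K ≠ ⊤ := by
    intro h2
    have h3 := frattini_nongenerating (G := K) (K := ⊥) (by rw [h2]; simp)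
    have h4 : (⊥ : Subgroup K) ≠ ⊤ := bot_ne_top
    exact h4 h3
  apply h.le_centralizer hcop (Subgroup.map_subtype_le _) ?_
    (h.norm.trans (normalizer_le_normalizer_map _ inferInstance))
    (Subgroup.le_normalizer.trans (normalizer_le_normalizer_map _ inferInstance))
  intro h2
  apply h1
  rw [eq_top_iff]
  intro x _
  have h3 : (x : G) ∈ (frattini K).map K.subtype := by
    rw [h2]
    exact x.2
  obtain ⟨y, hy, hyx⟩ := h3
  have : y = x := Subtype.ext hyx
  rwa [← this]

theorem commutator_le (h : MinAct X K) (hcop : (Nat.card X).Coprime (Nat.card K))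
    (hK : IsPGroup q K) : ⁅K, K⁆ ≤ K ⊓ Subgroup.centralizer (K : Set G) := by
  refine le_inf (Subgroup.commutator_le_self K) ?_
  refine le_trans ?_ (h.frattini_le hcop)
  rw [← Subgroup.map_subtype_commutator]
  exact Subgroup.map_mono (Cfsg.Agent.Lib.FrattiniPGroup.commutator_le_frattini hK)

theorem pow_mem (h : MinAct X K) (hcop : (Nat.card X).Coprime (Nat.card K))
    (hK : IsPGroup q K) {y : G} (hy : y ∈ K) : y ^ q ∈ K ⊓ Subgroup.centralizer (K : Set G) := by
  refine ⟨K.pow_mem hy q, h.frattini_le hcop ?_⟩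
  exact ⟨⟨y, hy⟩ ^ q, Cfsg.Agent.Lib.FrattiniPGroup.pow_mem_frattini hK _, rfl⟩

/-- `C_K(X) = Z(K)` in the nonabelian case -/
theorem inf_centralizer_eq (h : MinAct X K) (hcop : (Nat.card X).Coprime (Nat.card K))
    (hK : IsPGroup q K) (hna : ¬ IsMulCommutative K) :
    K ⊓ Subgroup.centralizer (X : Set G) = K ⊓ Subgroup.centralizer (K : Set G) :=
  le_antisymm ((h.inf_centralizer_le hcop).trans (h.commutator_le hcop hK)) (h.le_inf_centralizer hna)

theorem commutator_eq_center (h : MinAct X K) (hcop : (Nat.card X).Coprime (Nat.card K))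
    (hK : IsPGroup q K) (hna : ¬ IsMulCommutative K) :
    ⁅K, K⁆ = K ⊓ Subgroup.centralizer (K : Set G) :=
  le_antisymm (h.commutator_le hcop hK)
    ((h.inf_centralizer_eq hcop hK hna) ▸ (h.inf_centralizer_le hcop))

/-- `Z(K)` is elementary abelian in the nonabelian case -/
theorem isElementaryAbelian_center (h : MinAct X K) (hcop : (Nat.card X).Coprime (Nat.card K))
    (hK : IsPGroup q K) (hna : ¬ IsMulCommutative K) :
    Cfsg.IsElementaryAbelian q (K ⊓ Subgroup.centralizer (K : Set G)) := by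
  have hcomm : ∀ a ∈ K ⊓ Subgroup.centralizer (K : Set G), ∀ b ∈ K ⊓ Subgroup.centralizer (K : Set G),
      a * b = b * a := fun a ha b hb => Subgroup.mem_centralizer_iff.1 hb.2 a ha.1
  refine ⟨⟨⟨fun a b => Subtype.ext (hcomm a a.2 b b.2)⟩⟩, ?_⟩
  have hle := h.commutator_le hcop hK
  have key : ∀ a : G, a ∈ ⁅K, K⁆ → a ^ q = 1 := by
    intro a ha
    rw [Subgroup.commutator_def] at ha
    induction ha using Subgroup.closure_induction with
    | mem a ha =>
      obtain ⟨x, hx, y, hy, rfl⟩ := ha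
      have hz : ⁅x, y⁆ ∈ K ⊓ Subgroup.centralizer (K : Set G) :=
        hle (Subgroup.commutator_mem_commutator hx hy)
      -- `[x ^ n, y] = [x, y] ^ n`
      have hpow : ∀ n : ℕ, x ^ n * y = ⁅x, y⁆ ^ n * (y * x ^ n) := by
        intro n
        induction n with
        | zero => simp
        | succ n ih =>
          have hc : ∀ w ∈ K, ⁅x, y⁆ ^ n * w = w * ⁅x, y⁆ ^ n := by
            intro w hw
            have : Commute w ⁅x, y⁆ := Subgroup.mem_centralizer_iff.1 hz.2 w hw
            exact (this.pow_right n).eq.symm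
          have hxy : x * y = ⁅x, y⁆ * (y * x) := by
            rw [commutatorElement_def]; group
          calc x ^ (n + 1) * y = x * (x ^ n * y) := by rw [pow_succ']; group
            _ = x * (⁅x, y⁆ ^ n * (y * x ^ n)) := by rw [ih]
            _ = (x * ⁅x, y⁆ ^ n) * (y * x ^ n) := by group
            _ = (⁅x, y⁆ ^ n * x) * (y * x ^ n) := by rw [hc x hx]
            _ = ⁅x, y⁆ ^ n * ((x * y) * x ^ n) := by group
            _ = ⁅x, y⁆ ^ n * ((⁅x, y⁆ * (y * x)) * x ^ n) := by rw [hxy]
            _ = ⁅x, y⁆ ^ (n + 1) * (y * x ^ (n + 1)) := by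
              rw [pow_succ ⁅x, y⁆, pow_succ' x]; group
      have h1 := hpow q
      have h2 : x ^ q * y = y * x ^ q :=
        (Subgroup.mem_centralizer_iff.1 (h.pow_mem hcop hK hx).2 y hy).symm
      rw [h2] at h1
      exact (mul_eq_right.1 h1.symm)
    | one => exact one_pow q
    | mul a b ha hb iha ihb =>
      have hab : Commute a b := hcomm a (hle ha) b (hle hb)
      rw [hab.mul_pow, iha, ihb, one_mul]
    | inv a ha iha => rw [inv_pow, iha, inv_one]
  intro a ha
  rw [← h.commutator_eq_center hcop hK hna] at ha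
  exact key a ha

end pgroup

end MinAct

end Cfsg.Agent.H446
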