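import Cfsg.Agent.H902.Nice

/-!
# The `r`-part of `|L_n(q)|`, `r ≠ p`, is less than its fourth root (helper446, for S3538)
-/

set_option autoImplicit false

namespace Cfsg.Agent.H446.SmallCross

open Finset Cfsg.Agent.H902.Lte Cfsg.Agent.H902.Art

/-! ### the lower bound `q ^ (n ^ 2 - 2) ≤ |L_n(q)|` -/

/-- the sum of the exponents -/
def S (k : ℕ) : ℕ := ∑ i ∈ range k, (i + 2)

theorem S_succ (k : ℕ) : S (k + 1) = S k + (k + 2) := by rw [S, S, Finset.sum_range_succ]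

theorem two_S (k : ℕ) : 2 * S k = k * (k + 3) := by
  induction k with
  | zero => rfl
  | succ k ih => rw [S_succ, mul_add, ih]; ring

theorem low_num {q : ℤ} (hq : 2 ≤ q) (k : ℕ) :
    q ^ S k * ((q ^ 2 - q - 1) * q ^ k + 1) ≤ (∏ i ∈ range k, (q ^ (i + 2) - 1)) * ((q - 1) * q ^ (k + 1)) := by
  induction k with
  | zero =>
    simp only [S, Finset.range_zero, Finset.sum_empty, Finset.prod_empty, pow_zero, zero_add, pow_one]
    nlinarith
  | succ k ih =>
    rw [Finset.prod_range_succ, S_succ, pow_add]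
    have h0 : 0 < q := by linarith
    have h1 : 1 ≤ q ^ (k + 2) := one_le_pow₀ (by linarith)
    have h2 : q ^ (k + 2) = q ^ (k + 1) * q := pow_succ _ _
    have h3 : 1 ≤ q ^ k := one_le_pow₀ (by linarith)
    have hS : 0 ≤ q ^ S k := by positivity
    calc q ^ S k * q ^ (k + 2) * ((q ^ 2 - q - 1) * q ^ (k + 1) + 1)
        ≤ q ^ S k * ((q ^ 2 - q - 1) * q ^ k + 1) * (q * (q ^ (k + 2) - 1)) := by
          rw [mul_assoc, mul_assoc]
          apply mul_le_mul_of_nonneg_left _ hS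
          have e1 : q ^ (k + 1) = q ^ k * q := pow_succ _ _
          have e2 : q ^ (k + 2) = q ^ k * q * q := by rw [pow_succ, pow_succ]
          rw [e1, e2]
          nlinarith
      _ ≤ (∏ i ∈ range k, (q ^ (i + 2) - 1)) * ((q - 1) * q ^ (k + 1)) * (q * (q ^ (k + 2) - 1)) :=
          mul_le_mul_of_nonneg_right ih (mul_nonneg h0.le (by linarith))
      _ = (∏ i ∈ range k, (q ^ (i + 2) - 1)) * (q ^ (k + 2) - 1) * ((q - 1) * q ^ (k + 1 + 1)) := by ring

theorem cast_num {q n : ℕ} (hq : 2 ≤ q) :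
    ((num (.L n) q : ℕ) : ℤ) = ∏ i ∈ range (n - 1), ((q : ℤ) ^ (i + 2) - 1) := by
  show ((∏ i ∈ range (n - 1), (q ^ (i + 2) - 1) : ℕ) : ℤ) = _
  rw [Nat.cast_prod]
  apply Finset.prod_congr rfl
  intro i _
  rw [Nat.cast_sub (Nat.one_le_pow _ _ (by omega))]
  push_cast; rfl

/-- **the lower bound** -/
theorem low {n p f M : ℕ} (hn : 2 ≤ n) (h : Real (.L n) p f M) : (p ^ f) ^ (n ^ 2 - 2) ≤ M := by
  have hq := h.q_ge
  set q := p ^ f with hqdef
  have heq : Nat.gcd n (q - 1) * M = q ^ (n * (n - 1) / 2) * num (.L n) q := h.eq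
  have hg : Nat.gcd n (q - 1) ≤ q - 1 := Nat.gcd_le_right _ (by omega)
  have h1 := low_num (q := (q : ℤ)) (by exact_mod_cast hq) (n - 1)
  rw [← cast_num hq] at h1
  have h2 : q ^ (n * (n - 1) / 2) * num (.L n) q ≤ (q - 1) * M := by
    rw [← heq]
    exact Nat.mul_le_mul_right _ hg
  obtain ⟨k, rfl⟩ : ∃ k, n = k + 2 := ⟨n - 2, by omega⟩
  have e1 : k + 2 - 1 = k + 1 := by omega
  rw [e1] at h1 h2
  set E := (k + 2) * (k + 1) / 2 with hE
  have hE2 : 2 * E = (k + 2) * (k + 1) := by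
    rw [hE, mul_comm 2]
    exact Nat.div_mul_cancel (by have := (Nat.even_mul_succ_self (k + 1)).two_dvd; rwa [mul_comm] at this)
  have hS := two_S (k + 1)
  have hsum : E + S (k + 1) = (k + 2) ^ 2 - 2 + 1 := by
    have : 2 * (E + S (k + 1)) = 2 * ((k + 2) ^ 2 - 1) := by
      rw [mul_add, hE2, hS]
      have : (k + 2) ^ 2 - 1 = k ^ 2 + 4 * k + 3 := by
        have : (k + 2) ^ 2 = k ^ 2 + 4 * k + 3 + 1 := by ring
        omega
      rw [this]; ring
    have h4 : 4 ≤ (k + 2) ^ 2 := by nlinarith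
    omega
  set e := (k + 2) ^ 2 - 2 with he
  have hqz : (2 : ℤ) ≤ (q : ℤ) := by exact_mod_cast hq
  have h2z : (q : ℤ) ^ E * (num (.L (k + 2)) q : ℤ) ≤ ((q : ℤ) - 1) * (M : ℤ) := by
    have h3 : ((q - 1 : ℕ) : ℤ) = (q : ℤ) - 1 := by push_cast [Nat.cast_sub (show 1 ≤ q by omega)]; ring
    rw [← h3]
    exact_mod_cast h2
  have h0 : (0 : ℤ) < q := by linarith
  -- combine
  have h5 : (q : ℤ) ^ (k + 2) * ((q : ℤ) ^ e * (q ^ 2 - q - 1)) ≤ (q : ℤ) ^ (k + 2) * ((q - 1) ^ 2 * M) := by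
    calc (q : ℤ) ^ (k + 2) * ((q : ℤ) ^ e * (q ^ 2 - q - 1))
        = (q : ℤ) ^ (E + S (k + 1)) * ((q ^ 2 - q - 1) * q ^ (k + 1)) := by rw [hsum]; ring
      _ ≤ (q : ℤ) ^ (E + S (k + 1)) * ((q ^ 2 - q - 1) * q ^ (k + 1) + 1) := by
          apply mul_le_mul_of_nonneg_left _ (by positivity)
          linarith
      _ = (q : ℤ) ^ E * ((q : ℤ) ^ S (k + 1) * ((q ^ 2 - q - 1) * q ^ (k + 1) + 1)) := by rw [pow_add]; ring
      _ ≤ (q : ℤ) ^ E * ((num (.L (k + 2)) q : ℤ) * ((q - 1) * q ^ (k + 1 + 1))) :=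
          mul_le_mul_of_nonneg_left h1 (by positivity)
      _ = ((q : ℤ) ^ E * (num (.L (k + 2)) q : ℤ)) * ((q - 1) * q ^ (k + 2)) := by ring
      _ ≤ (((q : ℤ) - 1) * (M : ℤ)) * ((q - 1) * q ^ (k + 2)) :=
          mul_le_mul_of_nonneg_right h2z (mul_nonneg (by linarith) (by positivity))
      _ = (q : ℤ) ^ (k + 2) * ((q - 1) ^ 2 * M) := by ring
  have h6 : (q : ℤ) ^ e * (q ^ 2 - q - 1) ≤ (q - 1) ^ 2 * M := le_of_mul_le_mul_left h5 (by positivity)
  have h7 : ((q : ℤ) - 1) ^ 2 * (q : ℤ) ^ e ≤ ((q : ℤ) - 1) ^ 2 * M := by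
    refine le_trans ?_ h6
    rw [mul_comm]
    apply mul_le_mul_of_nonneg_left _ (by positivity)
    nlinarith
  have h8 : (q : ℤ) ^ e ≤ M := le_of_mul_le_mul_left h7 (by nlinarith)
  exact_mod_cast h8

/-! ### the `r`-part, `r` odd -/

theorem odd_parts {r q n : ℕ} (hr : r.Prime) (hr2 : r ≠ 2) (hq : 2 ≤ q) (hrq : ¬ r ∣ q) (hn : 1 ≤ n) :
    (r ∣ q - 1 ∧ P r (num (.L n) q) = (P r (q - 1)) ^ (n - 1) * r ^ padicValNat r n.factorial) ∨
      ∃ e : ℕ, 2 ≤ e ∧ P r (num (.L n) q) = (P r (q ^ e - 1)) ^ (n / e) * r ^ padicValNat r (n / e).factorial ∧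
        P r (q ^ e - 1) * (q - 1) ≤ q ^ e - 1 := by
  have hx2 : (2 : ℤ) ≤ |(q : ℤ)| := by rw [abs_of_nonneg (by positivity)]; exact_mod_cast hq
  have hrx : ¬ (r : ℤ) ∣ (q : ℤ) := not_dvd_cast hrq
  have hN := num_L (q := q) (n := n) hq hn
  have hW0 : (W (q : ℤ) n).natAbs ≠ 0 := Int.natAbs_ne_zero.2 (W_ne_zero hx2 n)
  have hN0 : num (.L n) q ≠ 0 := by intro h; rw [h, zero_mul] at hN; exact hW0 hN.symm
  have hy0 : q - 1 ≠ 0 := by omega
  have hP : P r (num (.L n) q) * P r (q - 1) = P r (W (q : ℤ) n).natAbs := by rw [← P_mul hN0 hy0, hN]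
  have he := order_pos (q := q) hr hrx
  have hW := PW_odd hr hr2 hx2 hrx n
  set e := orderOf (((q : ℤ)) : ZMod r) with hedef
  have habs : ∀ k : ℕ, ((q : ℤ) ^ k - 1).natAbs = q ^ k - 1 := by
    intro k
    have h1 : 1 ≤ q ^ k := Nat.one_le_pow _ _ (by omega)
    have h2 : (q : ℤ) ^ k - 1 = ((q ^ k - 1 : ℕ) : ℤ) := by rw [Nat.cast_sub h1]; push_cast; rfl
    rw [h2, Int.natAbs_natCast]
  rw [habs] at hW
  by_cases h : r ∣ q - 1
  · left
    refine ⟨h, ?_⟩
    have h1 : (r : ℤ) ∣ (q : ℤ) ^ 1 - 1 := by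
      rw [← Int.dvd_natAbs, habs, pow_one]
      exact Int.natCast_dvd_natCast.2 h
    have h3 : e = 1 := Nat.dvd_one.1 ((dvd_pow_sub_one_iff 1).1 h1)
    rw [h3, Nat.div_one, pow_one] at hW
    rw [hW] at hP
    have h5 : (P r (q - 1)) ^ n = (P r (q - 1)) ^ (n - 1) * P r (q - 1) := by
      rw [← pow_succ]; congr 1; omega
    rw [h5] at hP
    apply Nat.eq_of_mul_eq_mul_right (P_pos (r := r) (a := q - 1) hr)
    rw [hP]; ring
  · right
    rw [P_eq_one h, mul_one] at hP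
    have he2 : 2 ≤ e := by
      by_contra hcon
      have h3 : e = 1 := by omega
      have h1 : (r : ℤ) ∣ (q : ℤ) ^ 1 - 1 := (dvd_pow_sub_one_iff 1).2 (by rw [← hedef, h3])
      rw [← Int.dvd_natAbs, habs, pow_one] at h1
      exact h (Int.natCast_dvd_natCast.1 h1)
    refine ⟨e, he2, by rw [hP, hW], ?_⟩
    have hne : q ^ e - 1 ≠ 0 := sub_one_ne hq (by omega)
    have hcop : Nat.Coprime (P r (q ^ e - 1)) (q - 1) :=
      Nat.Coprime.pow_left _ ((Nat.Prime.coprime_iff_not_dvd hr).2 h)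
    have h1 : q - 1 ∣ q ^ e - 1 := by simpa using Nat.sub_dvd_pow_sub_pow q 1 e
    exact Nat.le_of_dvd (Nat.pos_of_ne_zero hne) (Nat.Coprime.mul_dvd_of_dvd_of_dvd hcop (P_dvd _ _) h1)

/-- the factorial part, to the fourth power -/
theorem fac_four {r a : ℕ} (hr : r.Prime) (hr2 : r ≠ 2) (ha : a ≠ 0) :
    (r ^ padicValNat r a.factorial) ^ 4 ≤ 9 ^ (a - 1) := by
  have h1 := pow_val_factorial_le hr (by have := hr.two_le; omega) ha
  calc (r ^ padicValNat r a.factorial) ^ 4 = ((r ^ padicValNat r a.factorial) ^ 2) ^ 2 := by ring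
    _ ≤ (3 ^ (a - 1)) ^ 2 := Nat.pow_le_pow_left h1 2
    _ = 9 ^ (a - 1) := by rw [← pow_mul, mul_comm, pow_mul]; norm_num

theorem fac_small {r a : ℕ} (hr : r.Prime) (hr2 : r ≠ 2) (ha : a ≤ 2) : padicValNat r a.factorial = 0 := by
  apply padicValNat.eq_zero_of_not_dvd
  intro h
  have := (hr.dvd_factorial).1 h
  have := hr.two_le
  omega

/-- odd `r`, `n ≥ 6` -/
theorem odd_six {r q n : ℕ} (hr : r.Prime) (hr2 : r ≠ 2) (hq : 2 ≤ q) (hrq : ¬ r ∣ q) (hn : 6 ≤ n) :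
    P r (num (.L n) q) ^ 4 < q ^ (n ^ 2 - 2) := by
  have hq0 : 0 < q := by omega
  have hexp : 6 * n - 4 ≤ n ^ 2 - 2 := by
    obtain ⟨k, rfl⟩ := Nat.exists_eq_add_of_le' hn
    have : (k + 6) ^ 2 = k ^ 2 + 12 * k + 36 := by ring
    omega
  have hfin : q ^ (6 * n - 4) ≤ q ^ (n ^ 2 - 2) := Nat.pow_le_pow_right hq0 hexp
  refine lt_of_lt_of_le ?_ hfin
  rcases odd_parts hr hr2 hq hrq (n := n) (by omega) with ⟨h, h1⟩ | ⟨e, he, h1, h2⟩
  · have hr3 : 3 ≤ r := by have := hr.two_le; omega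
    have hq4 : 4 ≤ q := by have := Nat.le_of_dvd (by omega) h; omega
    rw [h1, mul_pow]
    have h3 := fac_four hr hr2 (a := n) (by omega)
    have h4 : P r (q - 1) ≤ q - 1 := P_le (by omega)
    calc ((P r (q - 1)) ^ (n - 1)) ^ 4 * (r ^ padicValNat r n.factorial) ^ 4
        ≤ ((q - 1) ^ (n - 1)) ^ 4 * 9 ^ (n - 1) :=
          Nat.mul_le_mul (Nat.pow_le_pow_left (Nat.pow_le_pow_left h4 _) _) h3
      _ ≤ ((q - 1) ^ (n - 1)) ^ 4 * (q ^ 2) ^ (n - 1) :=
          Nat.mul_le_mul_left _ (Nat.pow_le_pow_left (by nlinarith) _)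
      _ < (q ^ (n - 1)) ^ 4 * (q ^ 2) ^ (n - 1) := by
          apply Nat.mul_lt_mul_of_pos_right _ (by positivity)
          apply Nat.pow_lt_pow_left _ (by norm_num)
          exact Nat.pow_lt_pow_left (by omega) (by omega)
      _ = q ^ (6 * n - 6) := by rw [← pow_mul, ← pow_mul, ← pow_add]; congr 1; omega
      _ ≤ q ^ (6 * n - 4) := Nat.pow_le_pow_right hq0 (by omega)
  · rw [h1, mul_pow]
    rcases Nat.eq_zero_or_pos (n / e) with ha | ha
    · rw [ha]
      simp only [pow_zero, one_pow, one_mul, Nat.factorial_zero]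
      have : padicValNat r 1 = 0 := by simp
      rw [this, pow_zero, one_pow]
      exact Nat.one_lt_pow (by omega) (by omega)
    · have h3 := fac_four hr hr2 (a := n / e) (by omega)
      have hae : n / e * e ≤ n := Nat.div_mul_le_self n e
      set a := n / e with hadef
      have h4 : P r (q ^ e - 1) ≤ q ^ e - 1 := P_le (sub_one_ne hq (by omega))
      have h5 : 1 ≤ q ^ e := Nat.one_le_pow _ _ hq0
      have h6 : 2 * a ≤ n := by nlinarith
      calc ((P r (q ^ e - 1)) ^ a) ^ 4 * (r ^ padicValNat r a.factorial) ^ 4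
          ≤ ((q ^ e - 1) ^ a) ^ 4 * 9 ^ (a - 1) :=
            Nat.mul_le_mul (Nat.pow_le_pow_left (Nat.pow_le_pow_left h4 _) _) h3
        _ < ((q ^ e) ^ a) ^ 4 * 9 ^ (a - 1) := by
            apply Nat.mul_lt_mul_of_pos_right _ (by positivity)
            apply Nat.pow_lt_pow_left _ (by norm_num)
            exact Nat.pow_lt_pow_left (by omega) (by omega)
        _ ≤ (q ^ n) ^ 4 * (q ^ 4) ^ (a - 1) := by
            apply Nat.mul_le_mul
            · apply Nat.pow_le_pow_left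
              rw [← pow_mul]
              exact Nat.pow_le_pow_right hq0 (by rw [mul_comm]; exact hae)
            · apply Nat.pow_le_pow_left
              calc 9 ≤ 2 ^ 4 := by norm_num
                _ ≤ q ^ 4 := Nat.pow_le_pow_left hq 4
        _ = q ^ (4 * n + 4 * (a - 1)) := by rw [← pow_mul, ← pow_mul, ← pow_add]; congr 1; ring
        _ ≤ q ^ (6 * n - 4) := Nat.pow_le_pow_right hq0 (by omega)

/-- odd `r`, `n = 5` -/
theorem odd_five {r q : ℕ} (hr : r.Prime) (hr2 : r ≠ 2) (hq : 2 ≤ q) (hrq : ¬ r ∣ q) :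
    P r (num (.L 5) q) ^ 4 < q ^ 23 := by
  have hq0 : 0 < q := by omega
  rcases odd_parts hr hr2 hq hrq (n := 5) (by norm_num) with ⟨h, h1⟩ | ⟨e, he, h1, h2⟩
  · have hr3 : 3 ≤ r := by have := hr.two_le; omega
    have hq4 : 4 ≤ q := by have := Nat.le_of_dvd (by omega) h; omega
    rw [h1, mul_pow]
    have h3 := fac_four hr hr2 (a := 5) (by norm_num)
    have h4 : P r (q - 1) ≤ q - 1 := P_le (by omega)
    calc ((P r (q - 1)) ^ (5 - 1)) ^ 4 * (r ^ padicValNat r (Nat.factorial 5)) ^ 4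
        ≤ ((q - 1) ^ 4) ^ 4 * 9 ^ 4 :=
          Nat.mul_le_mul (Nat.pow_le_pow_left (Nat.pow_le_pow_left h4 _) _) h3
      _ < (q ^ 4) ^ 4 * 9 ^ 4 := by
          apply Nat.mul_lt_mul_of_pos_right _ (by positivity)
          apply Nat.pow_lt_pow_left _ (by norm_num)
          exact Nat.pow_lt_pow_left (by omega) (by omega)
      _ ≤ (q ^ 4) ^ 4 * q ^ 7 := by
          apply Nat.mul_le_mul_left
          calc 9 ^ 4 ≤ 4 ^ 7 := by norm_num
            _ ≤ q ^ 7 := Nat.pow_le_pow_left hq4 7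
      _ = q ^ 23 := by ring
  · have hle : P r (q ^ e - 1) ≤ q ^ e - 1 := P_le (sub_one_ne hq (by omega))
    by_cases he2 : e = 2
    · subst he2
      have hA : P r (q ^ 2 - 1) ≤ q + 1 := by
        rw [P_sq_mul hq, mul_comm] at h2
        have := Nat.le_of_mul_le_mul_left h2 (by omega)
        rwa [P_sq_mul hq]
      rw [h1, fac_small hr hr2 (by norm_num)]
      calc ((P r (q ^ 2 - 1)) ^ (5 / 2) * r ^ 0) ^ 4 ≤ ((q + 1) ^ 2 * 1) ^ 4 := by
            apply Nat.pow_le_pow_left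
            rw [pow_zero]
            exact Nat.mul_le_mul_right _ (Nat.pow_le_pow_left hA _)
        _ = (q + 1) ^ 8 := by ring
        _ ≤ (q ^ 2) ^ 8 := Nat.pow_le_pow_left (by nlinarith) 8
        _ = q ^ 16 := by ring
        _ < q ^ 23 := Nat.pow_lt_pow_right (by omega) (by norm_num)
    · have ha : 5 / e ≤ 1 := by
        have : 3 ≤ e := by omega
        have := Nat.div_le_div_left this (by norm_num) (a := 5)
        omega
      rw [h1, fac_small hr hr2 (by omega), pow_zero, mul_one]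
      rcases Nat.eq_zero_or_pos (5 / e) with h0 | h0
      · rw [h0, pow_zero, one_pow]
        exact Nat.one_lt_pow (by norm_num) (by omega)
      · have h3 : 5 / e = 1 := by omega
        have h4 : e ≤ 5 := by
          by_contra hcon
          rw [Nat.div_eq_of_lt (by omega)] at h0
          omega
        rw [h3, pow_one]
        calc (P r (q ^ e - 1)) ^ 4 ≤ (q ^ 5) ^ 4 :=
              Nat.pow_le_pow_left (hle.trans ((Nat.sub_le _ _).trans (Nat.pow_le_pow_right hq0 h4))) 4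
          _ = q ^ 20 := by ring
          _ < q ^ 23 := Nat.pow_lt_pow_right (by omega) (by norm_num)

/-- odd `r`, `n = 4` -/
theorem odd_four {r q : ℕ} (hr : r.Prime) (hr2 : r ≠ 2) (hq : 2 ≤ q) (hrq : ¬ r ∣ q) :
    P r (num (.L 4) q) ^ 4 < q ^ 14 := by
  have hq0 : 0 < q := by omega
  rcases odd_parts hr hr2 hq hrq (n := 4) (by norm_num) with ⟨h, h1⟩ | ⟨e, he, h1, h2⟩
  · have hr3 : 3 ≤ r := by have := hr.two_le; omega
    have hq4 : 4 ≤ q := by have := Nat.le_of_dvd (by omega) h; omega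
    rw [h1, mul_pow]
    have h3 : (r ^ padicValNat r (Nat.factorial 4)) ^ 4 ≤ 81 := by
      by_cases h5 : r = 3
      · subst h5
        have : padicValNat 3 (Nat.factorial 4) = 1 := by
          have : Fact (Nat.Prime 3) := ⟨Nat.prime_three⟩
          have e1 : Nat.factorial 4 = 3 * 8 := by decide
          rw [e1, padicValNat.mul (by norm_num) (by norm_num), padicValNat_self,
            padicValNat.eq_zero_of_not_dvd (by norm_num)]
        rw [this]; norm_num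
      · have : padicValNat r (Nat.factorial 4) = 0 := by
          apply padicValNat.eq_zero_of_not_dvd
          intro h6
          have h7 := (hr.dvd_factorial).1 h6
          have h8 : r = 4 := by omega
          rw [h8] at hr
          exact absurd hr (by norm_num)
        rw [this]; norm_num
    have h4 : P r (q - 1) ≤ q - 1 := P_le (by omega)
    calc ((P r (q - 1)) ^ (4 - 1)) ^ 4 * (r ^ padicValNat r (Nat.factorial 4)) ^ 4
        ≤ ((q - 1) ^ 3) ^ 4 * 81 :=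
          Nat.mul_le_mul (Nat.pow_le_pow_left (Nat.pow_le_pow_left h4 _) _) h3
      _ < q ^ 14 := by
          rcases Nat.lt_or_ge q 9 with h9 | h9
          · interval_cases q <;> norm_num
          · calc ((q - 1) ^ 3) ^ 4 * 81 < (q ^ 3) ^ 4 * 81 := by
                  apply Nat.mul_lt_mul_of_pos_right _ (by positivity)
                  apply Nat.pow_lt_pow_left _ (by norm_num)
                  exact Nat.pow_lt_pow_left (by omega) (by omega)
              _ ≤ (q ^ 3) ^ 4 * q ^ 2 := Nat.mul_le_mul_left _ (by nlinarith)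
              _ = q ^ 14 := by ring
  · have key : ∀ b : ℕ, b ≤ 2 * q ^ 2 → b ^ 4 < q ^ 14 := by
      intro b hb
      calc b ^ 4 ≤ (2 * q ^ 2) ^ 4 := Nat.pow_le_pow_left hb 4
        _ = 2 ^ 4 * q ^ 8 := by ring
        _ ≤ q ^ 4 * q ^ 8 := Nat.mul_le_mul_right _ (Nat.pow_le_pow_left hq 4)
        _ = q ^ 12 := by ring
        _ < q ^ 14 := Nat.pow_lt_pow_right (by omega) (by norm_num)
    have hrp : ∀ a : ℕ, a ≤ 2 → r ^ padicValNat r a.factorial = 1 := by
      intro a ha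
      rw [fac_small hr hr2 ha, pow_zero]
    by_cases he4 : 4 < e
    · rw [h1, Nat.div_eq_of_lt he4, hrp 0 (by norm_num), pow_zero, mul_one, one_pow]
      exact Nat.one_lt_pow (by norm_num) (by omega)
    · have he4' : e ≤ 4 := by omega
      interval_cases e
      · -- `e = 2`
        have hA : P r (q ^ 2 - 1) ≤ q + 1 := by
          rw [P_sq_mul hq, mul_comm] at h2
          have := Nat.le_of_mul_le_mul_left h2 (by omega)
          rwa [P_sq_mul hq]
        rw [h1, hrp (4 / 2) (by norm_num), mul_one]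
        rcases Nat.lt_or_ge q 3 with h3 | h3
        · have hq2 : q = 2 := by omega
          subst hq2
          calc (P r (2 ^ 2 - 1) ^ (4 / 2)) ^ 4 ≤ (3 ^ 2) ^ 4 :=
                Nat.pow_le_pow_left (Nat.pow_le_pow_left hA 2) 4
            _ < 2 ^ 14 := by norm_num
        · apply key
          calc P r (q ^ 2 - 1) ^ (4 / 2) ≤ (q + 1) ^ 2 := Nat.pow_le_pow_left hA 2
            _ ≤ 2 * q ^ 2 := by nlinarith
      · -- `e = 3`
        rw [h1, hrp (4 / 3) (by norm_num), mul_one]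
        apply key
        have h5 : q ^ 3 - 1 = (q - 1) * (q ^ 2 + q + 1) := by
          obtain ⟨t, rfl⟩ := Nat.exists_eq_add_of_le' (show 1 ≤ q by omega)
          rw [Nat.add_sub_cancel]
          have : (t + 1) ^ 3 = t * ((t + 1) ^ 2 + (t + 1) + 1) + 1 := by ring
          rw [this, Nat.add_sub_cancel]
        have h6 : P r (q ^ 3 - 1) ≤ q ^ 2 + q + 1 := by
          have h7 : P r (q ^ 3 - 1) * (q - 1) ≤ (q ^ 2 + q + 1) * (q - 1) := by
            refine h2.trans (le_of_eq ?_)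
            rw [h5, mul_comm]
          exact Nat.le_of_mul_le_mul_right h7 (by omega)
        calc P r (q ^ 3 - 1) ^ (4 / 3) = P r (q ^ 3 - 1) := by norm_num
          _ ≤ q ^ 2 + q + 1 := h6
          _ ≤ 2 * q ^ 2 := by nlinarith
      · -- `e = 4`
        rw [h1, hrp (4 / 4) (by norm_num), mul_one]
        apply key
        have h5 := P_sq_sub_one_le (j := 2) hr hr2 hq (by norm_num)
        calc P r (q ^ 4 - 1) ^ (4 / 4) = P r (q ^ 4 - 1) := by norm_num
          _ ≤ q ^ 2 + 1 := h5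
          _ ≤ 2 * q ^ 2 := by nlinarith

/-! ### the `2`-part -/

theorem two_parts {q n : ℕ} (hq : 3 ≤ q) (hodd : Odd q) (hn : 3 ≤ n) :
    P 2 (num (.L n) q) = (P 2 (q - 1) * P 2 (q ^ 2 - 1)) ^ ((n + 1) / 2 - 1) *
      (P 2 (q ^ 2 - 1)) ^ (n / 2 + 1 - (n + 1) / 2) * 2 ^ padicValNat 2 (n / 2).factorial := by
  have h1 : num (.L n) q * ((q : ℤ) - 1).natAbs = (W (q : ℤ) n).natAbs := by
    rw [← num_L (by omega) (by omega)]
    congr 1
    omega
  have h2 := PLU_two hq hodd hn (Or.inl rfl) h1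
  have h3 : ((q : ℤ) - 1).natAbs = q - 1 := by omega
  rw [h3] at h2
  exact h2

theorem mx_le {q : ℕ} (hq : 3 ≤ q) (hodd : Odd q) : P 2 (q - 1) * P 2 (q ^ 2 - 1) ≤ 2 * q ^ 2 := by
  rcases P_two_mul hq hodd (y := q - 1) (z := q + 1) (Or.inl ⟨rfl, rfl⟩) with h | h
  · refine h.trans ?_; nlinarith
  · refine h.trans (Nat.mul_le_mul_left 2 (Nat.pow_le_pow_left (by omega) 2))

theorem B_le {q : ℕ} (hq : 3 ≤ q) (hodd : Odd q) : P 2 (q ^ 2 - 1) ≤ q ^ 2 := by
  refine (P_two_sq_sub_one_le hq hodd).trans ?_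
  nlinarith

theorem v2_three : padicValNat 2 (Nat.factorial 3) = 1 := by
  have : Fact (Nat.Prime 2) := ⟨Nat.prime_two⟩
  have e1 : Nat.factorial 3 = 2 * 3 := by decide
  rw [e1, padicValNat.mul (by norm_num) (by norm_num), padicValNat_self,
    padicValNat.eq_zero_of_not_dvd (by norm_num)]

theorem v2_two : padicValNat 2 (Nat.factorial 2) = 1 := by
  have : Fact (Nat.Prime 2) := ⟨Nat.prime_two⟩
  have e1 : Nat.factorial 2 = 2 := by decide
  rw [e1, padicValNat_self]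

theorem two_five {q : ℕ} (hq : 3 ≤ q) (hodd : Odd q) : P 2 (num (.L 5) q) ^ 4 < q ^ 23 := by
  have h1 := two_parts hq hodd (n := 5) (by norm_num)
  have h2 : P 2 (num (.L 5) q) = (P 2 (q - 1) * P 2 (q ^ 2 - 1)) ^ 2 * 2 := by
    rw [h1]
    show (P 2 (q - 1) * P 2 (q ^ 2 - 1)) ^ 2 * (P 2 (q ^ 2 - 1)) ^ 0 * 2 ^ padicValNat 2 (Nat.factorial 2) = _
    rw [v2_two]; ring
  rw [h2]
  rcases Nat.lt_or_ge q 5 with h5 | h5
  · have hq3 : q = 3 := by
      rcases hodd with ⟨k, hk⟩; omega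
    subst hq3
    have h3 : P 2 (3 - 1) * P 2 (3 ^ 2 - 1) ≤ 2 * 8 :=
      Nat.mul_le_mul (P_le (by norm_num)) (P_le (by norm_num))
    calc ((P 2 (3 - 1) * P 2 (3 ^ 2 - 1)) ^ 2 * 2) ^ 4 ≤ ((2 * 8) ^ 2 * 2) ^ 4 :=
          Nat.pow_le_pow_left (Nat.mul_le_mul_right _ (Nat.pow_le_pow_left h3 _)) _
      _ < 3 ^ 23 := by norm_num
  · calc ((P 2 (q - 1) * P 2 (q ^ 2 - 1)) ^ 2 * 2) ^ 4 ≤ ((2 * q ^ 2) ^ 2 * 2) ^ 4 :=
          Nat.pow_le_pow_left (Nat.mul_le_mul_right _ (Nat.pow_le_pow_left (mx_le hq hodd) _)) _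
      _ = 2 ^ 12 * q ^ 16 := by ring
      _ < 5 ^ 7 * q ^ 16 := by
          apply Nat.mul_lt_mul_of_pos_right (by norm_num) (by positivity)
      _ ≤ q ^ 7 * q ^ 16 := Nat.mul_le_mul_right _ (Nat.pow_le_pow_left h5 7)
      _ = q ^ 23 := by ring

theorem two_six {q : ℕ} (hq : 3 ≤ q) (hodd : Odd q) : P 2 (num (.L 6) q) ^ 4 < q ^ 34 := by
  have h1 := two_parts hq hodd (n := 6) (by norm_num)
  have h2 : P 2 (num (.L 6) q) = (P 2 (q - 1) * P 2 (q ^ 2 - 1)) ^ 2 * P 2 (q ^ 2 - 1) * 2 := by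
    rw [h1]
    show (P 2 (q - 1) * P 2 (q ^ 2 - 1)) ^ 2 * (P 2 (q ^ 2 - 1)) ^ 1 * 2 ^ padicValNat 2 (Nat.factorial 3) = _
    rw [v2_three]; ring
  rw [h2]
  calc ((P 2 (q - 1) * P 2 (q ^ 2 - 1)) ^ 2 * P 2 (q ^ 2 - 1) * 2) ^ 4 ≤ ((2 * q ^ 2) ^ 2 * q ^ 2 * 2) ^ 4 :=
        Nat.pow_le_pow_left (Nat.mul_le_mul_right _
          (Nat.mul_le_mul (Nat.pow_le_pow_left (mx_le hq hodd) _) (B_le hq hodd))) _
    _ = 2 ^ 12 * q ^ 24 := by ring
    _ < 3 ^ 10 * q ^ 24 := by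
        apply Nat.mul_lt_mul_of_pos_right (by norm_num) (by positivity)
    _ ≤ q ^ 10 * q ^ 24 := Nat.mul_le_mul_right _ (Nat.pow_le_pow_left hq 10)
    _ = q ^ 34 := by ring

theorem two_seven {q n : ℕ} (hq : 3 ≤ q) (hodd : Odd q) (hn : 7 ≤ n) :
    P 2 (num (.L n) q) ^ 4 < q ^ (n ^ 2 - 2) := by
  have hq0 : 0 < q := by omega
  have h1 := two_parts hq hodd (n := n) (by omega)
  have hm := mx_le hq hodd
  have hB := B_le hq hodd
  have hf := pow_val_factorial_two_le (a := n / 2) (by omega)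
  rcases Nat.even_or_odd n with ⟨k, hk⟩ | ⟨k, hk⟩
  · have e1 : (n + 1) / 2 - 1 = k - 1 := by omega
    have e2 : n / 2 + 1 - (n + 1) / 2 = 1 := by omega
    have e4 : n / 2 = k := by omega
    rw [e1, e2, e4, pow_one] at h1
    rw [e4] at hf
    obtain ⟨j, rfl⟩ : ∃ j, k = j + 4 := ⟨k - 4, by omega⟩
    have e5 : j + 4 - 1 = j + 3 := by omega
    rw [e5] at h1 hf
    rw [h1]
    calc ((P 2 (q - 1) * P 2 (q ^ 2 - 1)) ^ (j + 3) * P 2 (q ^ 2 - 1) * 2 ^ padicValNat 2 (j + 4).factorial) ^ 4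
        ≤ ((2 * q ^ 2) ^ (j + 3) * q ^ 2 * 2 ^ (j + 3)) ^ 4 :=
          Nat.pow_le_pow_left (Nat.mul_le_mul (Nat.mul_le_mul (Nat.pow_le_pow_left hm _) hB) hf) _
      _ = 2 ^ (8 * j + 24) * q ^ (8 * j + 32) := by
          ring
      _ < q ^ (8 * j + 24) * q ^ (8 * j + 32) := by
          apply Nat.mul_lt_mul_of_pos_right _ (by positivity)
          exact Nat.pow_lt_pow_left (by omega) (by omega)
      _ = q ^ (16 * j + 56) := by rw [← pow_add]; congr 1; ring
      _ ≤ q ^ (n ^ 2 - 2) := by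
          apply Nat.pow_le_pow_right hq0
          rw [hk]
          have : (j + 4 + (j + 4)) ^ 2 = 4 * j ^ 2 + 32 * j + 64 := by ring
          omega
  · have e1 : (n + 1) / 2 - 1 = k := by omega
    have e2 : n / 2 + 1 - (n + 1) / 2 = 0 := by omega
    have e4 : n / 2 = k := by omega
    rw [e1, e2, e4, pow_zero, mul_one] at h1
    rw [e4] at hf
    obtain ⟨j, rfl⟩ : ∃ j, k = j + 3 := ⟨k - 3, by omega⟩
    have e5 : j + 3 - 1 = j + 2 := by omega
    rw [e5] at hf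
    rw [h1]
    calc ((P 2 (q - 1) * P 2 (q ^ 2 - 1)) ^ (j + 3) * 2 ^ padicValNat 2 (j + 3).factorial) ^ 4
        ≤ ((2 * q ^ 2) ^ (j + 3) * 2 ^ (j + 2)) ^ 4 :=
          Nat.pow_le_pow_left (Nat.mul_le_mul (Nat.pow_le_pow_left hm _) hf) _
      _ = 2 ^ (8 * j + 20) * q ^ (8 * j + 24) := by
          ring
      _ < q ^ (8 * j + 20) * q ^ (8 * j + 24) := by
          apply Nat.mul_lt_mul_of_pos_right _ (by positivity)
          exact Nat.pow_lt_pow_left (by omega) (by omega)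
      _ = q ^ (16 * j + 44) := by rw [← pow_add]; congr 1; ring
      _ ≤ q ^ (n ^ 2 - 2) := by
          apply Nat.pow_le_pow_right hq0
          rw [hk]
          have : (2 * (j + 3) + 1) ^ 2 = 4 * j ^ 2 + 28 * j + 49 := by ring
          omega

theorem P_two_odd_mul {j : ℕ} (hj : Odd j) : P 2 (2 * j) = 2 := by
  have h4 : 2 * j = 2 ^ 1 * j := by ring
  rw [h4, P_pow_self Nat.prime_two]
  · norm_num
  · intro h5
    exact (Nat.not_even_iff_odd.2 hj) (even_iff_two_dvd.2 h5)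

/-- `r = 2`, `n = 4` -/
theorem two_four {p f M : ℕ} (h : Real (.L 4) p f M) (h43 : p ^ f ≠ 3) (hp2 : 2 ≠ p) : P 2 M ^ 4 < (p ^ f) ^ 14 := by
  have hq := h.q_ge
  have hndvd := h.not_dvd_q Nat.prime_two hp2
  have hP := h.P_other Nat.prime_two hp2
  set q := p ^ f with hqdef
  have hodd : Odd q := Nat.not_even_iff_odd.1 fun h => hndvd h.two_dvd
  have hq3 : 3 ≤ q := by rcases hodd with ⟨k, hk⟩; omega
  have hq5 : 5 ≤ q := by rcases hodd with ⟨k, hk⟩; omega
  have h1 := two_parts hq3 hodd (n := 4) (by norm_num)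
  have h2 : P 2 (num (.L 4) q) = (P 2 (q - 1) * P 2 (q ^ 2 - 1)) * P 2 (q ^ 2 - 1) * 2 := by
    rw [h1]
    show (P 2 (q - 1) * P 2 (q ^ 2 - 1)) ^ 1 * (P 2 (q ^ 2 - 1)) ^ 1 * 2 ^ padicValNat 2 (Nat.factorial 2) = _
    rw [v2_two]; ring
  have hmul : P 2 (q ^ 2 - 1) = P 2 (q - 1) * P 2 (q + 1) := by
    rw [P_sq_mul hq, P_mul (by omega) (by omega)]
  rw [h2, hmul] at hP
  have hd : dd (.L 4) q = Nat.gcd 4 (q - 1) := rfl
  obtain ⟨k, hk⟩ := hodd
  rcases Nat.even_or_odd k with hk2 | hk2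
  · -- `q ≡ 1 mod 4`
    obtain ⟨l, hl⟩ := hk2
    have e1 : P 2 (q + 1) = 2 := by
      have : q + 1 = 2 * (2 * l + 1) := by omega
      rw [this]
      exact P_two_odd_mul ⟨l, rfl⟩
    have e2 : Nat.gcd 4 (q - 1) = 4 := Nat.gcd_eq_left ⟨l, by omega⟩
    have e3 : P 2 4 = 4 := by
      have := P_pow_self (r := 2) (k := 2) (a := 1) Nat.prime_two (by norm_num)
      simpa using this
    rw [hd, e2, e3, e1] at hP
    have h4 : P 2 (q - 1) ≤ q - 1 := P_le (by omega)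
    set s := P 2 (q - 1)
    have h5 : P 2 M = 2 * s ^ 3 := by
      have : 4 * P 2 M = 4 * (2 * s ^ 3) := by rw [hP]; ring
      exact Nat.eq_of_mul_eq_mul_left (by norm_num) this
    rw [h5]
    calc (2 * s ^ 3) ^ 4 ≤ (2 * (q - 1) ^ 3) ^ 4 :=
          Nat.pow_le_pow_left (Nat.mul_le_mul_left 2 (Nat.pow_le_pow_left h4 3)) 4
      _ = 16 * (q - 1) ^ 12 := by ring
      _ < 16 * q ^ 12 := by
          apply Nat.mul_lt_mul_of_pos_left _ (by norm_num)
          exact Nat.pow_lt_pow_left (by omega) (by norm_num)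
      _ ≤ q ^ 2 * q ^ 12 := Nat.mul_le_mul_right _ (by nlinarith)
      _ = q ^ 14 := by ring
  · obtain ⟨l, hl⟩ := hk2
    have hq7 : 7 ≤ q := by omega
    have e1 : P 2 (q - 1) = 2 := by
      have : q - 1 = 2 * (2 * l + 1) := by omega
      rw [this]
      exact P_two_odd_mul ⟨l, rfl⟩
    have e2 : Nat.gcd 4 (q - 1) = 2 := by
      have h3 : q - 1 = 4 * l + 2 := by omega
      rw [h3, Nat.add_comm, Nat.gcd_add_mul_left_right]
      rfl
    have e3 : P 2 2 = 2 := by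
      have := P_pow_self (r := 2) (k := 1) (a := 1) Nat.prime_two (by norm_num)
      simpa using this
    rw [hd, e2, e3, e1] at hP
    have h4 : P 2 (q + 1) ≤ q + 1 := P_le (by omega)
    set s := P 2 (q + 1)
    have h5 : P 2 M = 8 * s ^ 2 := by
      have : 2 * P 2 M = 2 * (8 * s ^ 2) := by rw [hP]; ring
      exact Nat.eq_of_mul_eq_mul_left (by norm_num) this
    rw [h5]
    calc (8 * s ^ 2) ^ 4 ≤ (8 * (2 * q ^ 2)) ^ 4 := by
          apply Nat.pow_le_pow_left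
          apply Nat.mul_le_mul_left
          calc s ^ 2 ≤ (q + 1) ^ 2 := Nat.pow_le_pow_left h4 2
            _ ≤ 2 * q ^ 2 := by nlinarith
      _ = 65536 * q ^ 8 := by ring
      _ < 7 ^ 6 * q ^ 8 := by
          apply Nat.mul_lt_mul_of_pos_right (by norm_num) (by positivity)
      _ ≤ q ^ 6 * q ^ 8 := Nat.mul_le_mul_right _ (Nat.pow_le_pow_left hq7 6)
      _ = q ^ 14 := by ring

/-- **T1.** -/
theorem small_cross {n p f M r : ℕ} (hn : 4 ≤ n) (h : Real (.L n) p f M) (h43 : ¬ (n = 4 ∧ p ^ f = 3))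
    (hr : r.Prime) (hrp : r ≠ p) : P r M ^ 4 < M := by
  have hq := h.q_ge
  have hlow := low (by omega) h
  have hndvd := h.not_dvd_q hr hrp
  refine lt_of_lt_of_le ?_ hlow
  by_cases hr2 : r = 2
  · subst hr2
    have hodd : Odd (p ^ f) := Nat.not_even_iff_odd.1 fun h => hndvd h.two_dvd
    have hq3 : 3 ≤ p ^ f := by rcases hodd with ⟨k, hk⟩; omega
    by_cases hn4 : n = 4
    · subst hn4
      exact two_four h (fun h => h43 ⟨rfl, h⟩) hrp
    · refine lt_of_le_of_lt (Nat.pow_le_pow_left (h.P_other_le hr hrp) 4) ?_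
      by_cases hn5 : n = 5
      · subst hn5; exact two_five hq3 hodd
      by_cases hn6 : n = 6
      · subst hn6; exact two_six hq3 hodd
      exact two_seven hq3 hodd (by omega)
  · refine lt_of_le_of_lt (Nat.pow_le_pow_left (h.P_other_le hr hrp) 4) ?_
    by_cases hn4 : n = 4
    · subst hn4; exact odd_four hr hr2 hq hndvd
    by_cases hn5 : n = 5
    · subst hn5; exact odd_five hr hr2 hq hndvd
    exact odd_six hr hr2 hq hndvd (by omega)

end Cfsg.Agent.H446.SmallCross
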