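import Cfsg.Agent.H609.TH.Expl
import Cfsg.Agent.OrdDiv.Table
import Cfsg.Agent.H537.CopSC
import Cfsg.Agent.H296.Fr.RowRu
import Cfsg.Agent.H47.Meet3Ru
import Cfsg.Agent.H805.NilRu

/-!
# S3938: the Rudvalis group (helper446)

`r = 29`: the elements of order 29 are self-centralising, the only simple group at the top of a proper overgroup is
`L₂(29)`, at most two of them contain a given element of order 29 (`|C(a)| ≤ 28` for `a` of order 14), all automorphisms
are inner and `|C(g)| ≤ 245760` for `g` of prime order.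
-/

set_option autoImplicit false

namespace Cfsg.Agent.H446.SprRu

open Subgroup Cfsg Cfsg.Agent.OrdDiv Cfsg.Agent.H257.El Cfsg.Agent.H609.TH Cfsg.Agent.H424.Spr
open Cfsg.Agent.SporadicB

/-- the factorisation of the order -/
def l : List (ℕ × ℕ) := [(2, 14), (3, 3), (5, 3), (7, 1), (13, 1), (29, 1)]

theorem chk : chkN 145926144000 l 29 = true := by decide +kernel

theorem ok : okAll l 29 = true := by decide +kernel

theorem hsurv : ∀ g ∈ surv 145926144000 l 29 [], g = Grp.psl 2 29 := by decide +kernel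

theorem isoH : Spor.IsoRu RuOrder.H := ⟨RuLat.Main.equiv.symm⟩

theorem le_of_not_dvd {c : ℕ} (h : c ∣ 2 ^ 14 * 3375) (h6 : ¬ 2 ^ 6 ∣ c) : c ≤ 245760 := by
  obtain ⟨a, b, ha, hb, rfl⟩ := (Nat.dvd_mul).1 h
  obtain ⟨i, -, rfl⟩ := (Nat.dvd_prime_pow Nat.prime_two).1 ha
  have hi : i < 6 := by
    by_contra hcon
    exact h6 (Dvd.dvd.mul_right (pow_dvd_pow 2 (by omega)) _)
  have hb' : b ≤ 3375 := Nat.le_of_dvd (by norm_num) hb
  have h2 : 2 ^ i ≤ 2 ^ 5 := Nat.pow_le_pow_right (by norm_num) (by omega)
  calc 2 ^ i * b ≤ 2 ^ 5 * 3375 := Nat.mul_le_mul h2 hb'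
    _ ≤ 245760 := by norm_num

/-- the centralizers of the elements of prime order -/
theorem card_cent_le (x : RuOrder.H) (hx : (orderOf x).Prime) :
    Nat.card ↥(centralizer ({x} : Set RuOrder.H)) ≤ 245760 := by
  have := H436.TwoRu.finite_H
  have h1 : orderOf x ∣ 2 ^ 14 * 3 ^ 3 * 5 ^ 3 * 7 * 13 * 29 := by
    have e : 2 ^ 14 * 3 ^ 3 * 5 ^ 3 * 7 * 13 * 29 = 145926144000 := by norm_num
    rw [e, ← RuOrder.card_H]
    exact orderOf_dvd_natCard x
  have key : ∀ {q k : ℕ}, q.Prime → orderOf x ∣ q ^ k → orderOf x = q := fun hq h =>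
    (Nat.prime_dvd_prime_iff_eq hx hq).1 (hx.dvd_of_dvd_pow h)
  have key1 : ∀ {q : ℕ}, q.Prime → orderOf x ∣ q → orderOf x = q := fun hq h => (Nat.prime_dvd_prime_iff_eq hx hq).1 h
  rcases hx.dvd_mul.1 h1 with h1 | h1
  · rcases hx.dvd_mul.1 h1 with h1 | h1
    · rcases hx.dvd_mul.1 h1 with h1 | h1
      · rcases hx.dvd_mul.1 h1 with h1 | h1
        · rcases hx.dvd_mul.1 h1 with h1 | h1
          · rcases H805.NilSp.cent_two_Ru (key Nat.prime_two h1) with h2 | h2 <;> rw [h2]
            norm_num
          · have h3 := key Nat.prime_three h1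
            exact le_of_not_dvd (H296.Fr.Ru.cent35 x (Or.inl h3)) (H47.MeetS.RuThree.not_dvd isoH h3)
        · have h3 := key Nat.prime_five h1
          exact le_of_not_dvd (H296.Fr.Ru.cent35 x (Or.inr h3)) (CpAutRuFive.not_dvd h3)
      · have h3 := key1 (by norm_num) h1
        exact (Nat.le_of_dvd (by norm_num) (H296.Fr.Ru.cent7 x h3)).trans (by norm_num)
    · have h3 := key1 (by norm_num) h1
      exact (Nat.le_of_dvd (by norm_num) (H436.TwoRu.cent13 x h3)).trans (by norm_num)
  · have h3 := key1 (by norm_num) h1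
    exact (Nat.le_of_dvd (by norm_num) (H436.TwoRu.cent29 x h3)).trans (by norm_num)

/-- the centralizers of the elements of order 14 -/
theorem cent14 {a : RuOrder.H} (ha : orderOf a = 14) : Nat.card ↥(centralizer ({a} : Set RuOrder.H)) ≤ 28 := by
  have := H436.TwoRu.finite_H
  have h1 : orderOf (a ^ 2) = 7 := by
    rw [orderOf_pow_of_dvd (by norm_num) (by rw [ha]; norm_num), ha]
  have h2 := Nat.le_of_dvd (by norm_num) (H296.Fr.Ru.cent7 _ h1)
  refine le_trans (Nat.le_of_dvd Nat.card_pos (card_dvd_of_le ?_)) h2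
  intro x hx
  rw [mem_centralizer_singleton_iff] at hx ⊢
  exact (Commute.pow_right (show Commute x a from hx) 2).eq

theorem spr_H (known : Known.{0}) : Spr RuOrder.H := by
  have := H436.TwoRu.finite_H
  have hsc : Cfsg.Agent.H537.Cop.SC 29 RuOrder.H := Cfsg.Agent.H537.Cop.ru_29 isoH
  have hv : valid l 145926144000 = true := (of_chkN chk).1
  have hfree : Free 29 RuOrder.H := free_of_sc RuOrder.card_H hv (by norm_num) hsc ok
  refine spr_of_ltwo_count (c := 2) (D := 245760) Cfsg.Agent.OrdDiv.table known RuOrder.card_H (by norm_num) chk hfree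
    hsc hsurv ?_ ?_ (by norm_num)
  · intro a t ha _
    exact (cent14 ha).trans (by norm_num)
  · intro a ha
    obtain ⟨g, rfl⟩ := Cfsg.Agent.OddHalf.Table.OutRu.inner a
    have hg : orderOf g = orderOf (MulAut.conj g) := by
      have hinj : Function.Injective (MulAut.conj : RuOrder.H →* MulAut RuOrder.H) := by
        rw [injective_iff_map_eq_one]
        intro z hz
        have hz' : z ∈ center RuOrder.H := by
          rw [mem_center_iff]
          intro y
          have h1 : MulAut.conj z y = y := by rw [hz]; rfl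
          rw [MulAut.conj_apply] at h1
          calc y * z = z * y * z⁻¹ * z := by rw [h1]
            _ = z * y := by group
        rw [CpAutRuFive.center_bot, mem_bot] at hz'
        exact hz'
      exact (orderOf_injective _ hinj g).symm
    have h1 := card_cent_le g (by rw [hg]; exact ha)
    refine le_trans (le_of_eq ?_) h1
    refine Nat.card_congr (Equiv.subtypeEquivRight fun x => ?_)
    rw [mem_centralizer_singleton_iff, MulAut.conj_apply]
    constructor
    · intro h
      calc x * g = g * x * g⁻¹ * g := by rw [h]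
        _ = g * x := by group
    · intro h
      rw [← h]
      group

/-- **The Rudvalis group.** -/
theorem spr_ru (known : Cfsg.Agent.H257.El.Known.{0}) {T : Type} [Group T] [Finite T] (h : Spor.IsoRu T) :
    Cfsg.Agent.H424.Spr.Spr T := by
  obtain ⟨e⟩ := h
  exact Spr.congr (e.trans RuLat.Main.equiv).symm (spr_H known)

end Cfsg.Agent.H446.SprRu
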