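import Cfsg.Agent.H944.TS.Iface
import Cfsg.Agent.H674.SUBlock
import Cfsg.Agent.S0279
import Cfsg.Agent.S0283
import Cfsg.Agent.S2641

/-!
# Embeddings for S5741: `U₅(2) ≤ Ω₁₀⁻(2)`, `U₄(2) ≤ U₅(2) ≤ U₆(2)`, `L₃(4) ≤ U₆(2)`
-/

set_option autoImplicit false

namespace Cfsg.Agent.H446.TSub

open Cfsg Cfsg.Agent.OrdDiv Cfsg.Agent.H944.TS Matrix
open Cfsg.Agent.H674.SUBlock Cfsg.Agent.H674.SUTools Cfsg.Agent.LieClassical

universe u

theorem center_bot {F : Type} [Field F] [Fintype F] (hF : Fintype.card F = 2 ^ 2) {n : ℕ} (hn : 3 ≤ n)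
    (hc : Nat.gcd n (2 + 1) = 1) : Subgroup.center (Cfsg.SU n F 2) = ⊥ := by
  rw [← Subgroup.card_eq_one, Cfsg.Agent.S0279.result hF n hn, hc]

/-- `PSU = SU` if the centre is trivial -/
theorem psu_equiv {F : Type} [Field F] [Fintype F] (hF : Fintype.card F = 2 ^ 2) {n : ℕ} (hn : 3 ≤ n)
    (hc : Nat.gcd n (2 + 1) = 1) : Nonempty (Cfsg.PSU n F 2 ≃* Cfsg.SU n F 2) :=
  ⟨(QuotientGroup.quotientMulEquivOfEq (center_bot hF hn hc)).trans QuotientGroup.quotientBot⟩

/-- `SU_n → GU_n` -/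
def suGu (n : ℕ) (F : Type) [Field F] (q : ℕ) : Cfsg.SU n F q →* Cfsg.GU n F q :=
  MonoidHom.codRestrict ((SpecialLinearGroup.toGL).comp (Cfsg.SU n F q).subtype) (Cfsg.GU n F q) (fun x => x.2)

theorem suGu_injective (n : ℕ) (F : Type) [Field F] (q : ℕ) : Function.Injective (suGu n F q) := by
  intro x y h
  have h1 : SpecialLinearGroup.toGL (x : SpecialLinearGroup (Fin n) F) =
      SpecialLinearGroup.toGL (y : SpecialLinearGroup (Fin n) F) := congrArg Subtype.val h
  apply Subtype.ext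
  apply Subtype.ext
  have h2 := congrArg (fun z : GL (Fin n) F => (z : Matrix (Fin n) (Fin n) F)) h1
  exact h2

/-- a homomorphism from a simple non-abelian group which is injective stays injective modulo the centre -/
theorem injective_mod_center {S G : Type*} [Group S] [Group G] [IsSimpleGroup S] (hS : ¬ ∀ a b : S, a * b = b * a)
    (f : S →* G) (hf : Function.Injective f) :
    Function.Injective ((QuotientGroup.mk' (Subgroup.center G)).comp f) := by
  rw [← MonoidHom.ker_eq_bot_iff]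
  rcases Subgroup.Normal.eq_bot_or_eq_top (inferInstance :
    ((QuotientGroup.mk' (Subgroup.center G)).comp f).ker.Normal) with h | h
  · exact h
  · exfalso
    apply hS
    intro a b
    apply hf
    have ha : f a ∈ Subgroup.center G := by
      have : a ∈ ((QuotientGroup.mk' (Subgroup.center G)).comp f).ker := by rw [h]; trivial
      exact (QuotientGroup.eq_one_iff _).1 this
    rw [map_mul, map_mul]
    exact ((Subgroup.mem_center_iff.1 ha) (f b)).symm

/-- range of an injective homomorphism from a group in `Type` -/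
theorem of_range {g : Grp} {X : Type u} [Group X] {Y : Type} [Group Y] (f : Y →* X)
    (hf : Function.Injective f) (h : ∀ (L : Type u) [Group L], Nonempty (L ≃* Y) → Real g L) :
    ∃ L : Subgroup X, Real g ↥L :=
  ⟨f.range, h _ ⟨(MonoidHom.ofInjective hf).symm⟩⟩

/-- **X1** -/
theorem ominus_psu5 : Sub.{u} (.ominus 5 2) (.psu 5 2) := by
  intro X _ hX
  obtain ⟨F, i1, i2, a, b, hF, hab, ⟨e⟩⟩ := hX
  let _i : Fintype (GaloisField 2 2) := Fintype.ofFinite _
  have hK : Fintype.card (GaloisField 2 2) = 2 ^ 2 := by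
    rw [← Nat.card_eq_fintype_card, GaloisField.card 2 2 (by norm_num)]
  obtain ⟨φ, hφ⟩ := Cfsg.Agent.S2641.result (K := GaloisField 2 2) hK hF 5 (by decide) a b hab
  obtain ⟨e2⟩ := psu_equiv hK (n := 5) (by norm_num) (by norm_num)
  have hs : IsSimpleGroup (Cfsg.PSU 5 (GaloisField 2 2) 2) := Cfsg.Agent.S0283.result hK 5 (by norm_num) (by norm_num)
  have hperf : commutator (Cfsg.SU 5 (GaloisField 2 2) 2) = ⊤ :=
    Cfsg.Agent.LieClassical.HermPerfect.commutator_SU_eq_top hK (by norm_num) (by norm_num)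
  set f0 : Cfsg.SU 5 (GaloisField 2 2) 2 →* ↥(isometryGroup F (quadFormMinus (5 - 1) F a b)) :=
    φ.comp (suGu 5 (GaloisField 2 2) 2) with hf0
  have hf0i : Function.Injective f0 := hφ.comp (suGu_injective _ _ _)
  have hmem : ∀ x, f0 x ∈ commutator ↥(isometryGroup F (quadFormMinus (5 - 1) F a b)) := by
    intro x
    have h1 : x ∈ commutator (Cfsg.SU 5 (GaloisField 2 2) 2) := by rw [hperf]; trivial
    have h2 : f0 x ∈ (commutator (Cfsg.SU 5 (GaloisField 2 2) 2)).map f0 := ⟨x, h1, rfl⟩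
    have h3 : (commutator (Cfsg.SU 5 (GaloisField 2 2) 2)).map f0 ≤
        commutator ↥(isometryGroup F (quadFormMinus (5 - 1) F a b)) := by
      rw [commutator_def, commutator_def, Subgroup.map_commutator]
      exact Subgroup.commutator_mono le_top le_top
    exact h3 h2
  let f1 : Cfsg.SU 5 (GaloisField 2 2) 2 →* ↥(Cfsg.Omega F (quadFormMinus (5 - 1) F a b)) :=
    MonoidHom.codRestrict f0 _ hmem
  have hf1i : Function.Injective f1 := by
    intro x y h
    exact hf0i (congrArg Subtype.val h)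
  let f2 : Cfsg.PSU 5 (GaloisField 2 2) 2 →* ↥(Cfsg.Omega F (quadFormMinus (5 - 1) F a b)) :=
    f1.comp e2.toMonoidHom
  have hf2i : Function.Injective f2 := hf1i.comp e2.injective
  have hnc : ¬ ∀ x y : Cfsg.PSU 5 (GaloisField 2 2) 2, x * y = y * x := by
    intro hc
    have h1 : Subsingleton (Cfsg.PSU 5 (GaloisField 2 2) 2) := by
      refine ⟨fun x y => e2.injective ?_⟩
      have h2 : commutator (Cfsg.SU 5 (GaloisField 2 2) 2) = ⊥ := by
        rw [commutator_def, Subgroup.commutator_eq_bot_iff_le_centralizer]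
        intro s _ t _
        have := hc (e2.symm t) (e2.symm s)
        have h4 := congrArg e2 this
        simpa using h4
      have h3 : ∀ z : Cfsg.SU 5 (GaloisField 2 2) 2, z = 1 := by
        intro z
        have : z ∈ (⊤ : Subgroup (Cfsg.SU 5 (GaloisField 2 2) 2)) := trivial
        rw [← hperf, h2] at this
        exact this
      rw [h3 (e2 x), h3 (e2 y)]
    exact not_subsingleton _ h1
  have hf3 := injective_mod_center hnc f2 hf2i
  refine of_range (e.symm.toMonoidHom.comp ((QuotientGroup.mk' (Subgroup.center _)).comp f2))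
    (e.symm.injective.comp hf3) ?_
  intro L _ hL
  exact ⟨GaloisField 2 2, inferInstance, inferInstance, hK, hL⟩

/-- **X2** -/
theorem psu5_psu4 : Sub.{u} (.psu 5 2) (.psu 4 2) := by
  intro X _ hX
  obtain ⟨F, i1, i2, hF, ⟨e⟩⟩ := hX
  obtain ⟨e2⟩ := psu_equiv hF (n := 4) (by norm_num) (by norm_num)
  have h1 := pr_ext_injective (d := 4) (k := 1) hF (by norm_num) (by norm_num)
  refine of_range (e.symm.toMonoidHom.comp (((pr : Cfsg.SU (4 + 1) F 2 →* Cfsg.PSU (4 + 1) F 2).comp
    (ext hF 1 : Cfsg.SU 4 F 2 →* _)).comp e2.toMonoidHom)) (e.symm.injective.comp (h1.comp e2.injective)) ?_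
  intro L _ hL
  exact ⟨F, i1, i2, hF, hL⟩

/-- **X3** -/
theorem psu6_psu5 : Sub.{u} (.psu 6 2) (.psu 5 2) := by
  intro X _ hX
  obtain ⟨F, i1, i2, hF, ⟨e⟩⟩ := hX
  obtain ⟨e2⟩ := psu_equiv hF (n := 5) (by norm_num) (by norm_num)
  have h1 := pr_ext_injective (d := 5) (k := 1) hF (by norm_num) (by norm_num)
  refine of_range (e.symm.toMonoidHom.comp (((pr : Cfsg.SU (5 + 1) F 2 →* Cfsg.PSU (5 + 1) F 2).comp
    (ext hF 1 : Cfsg.SU 5 F 2 →* _)).comp e2.toMonoidHom)) (e.symm.injective.comp (h1.comp e2.injective)) ?_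
  intro L _ hL
  exact ⟨F, i1, i2, hF, hL⟩

/-! ### `L₃(4)` in `U₆(2)` -/

section L34

variable {F : Type} [Field F] (w : F)

/-- the change of basis -/
def T : Matrix (Fin 3 ⊕ Fin 3) (Fin 3 ⊕ Fin 3) F := fromBlocks 1 1 1 (w • 1)

/-- its inverse -/
def T' : Matrix (Fin 3 ⊕ Fin 3) (Fin 3 ⊕ Fin 3) F := fromBlocks (w ^ 2 • 1) (w • 1) (w • 1) (w • 1)

variable {w}

theorem T_mul (h2 : (2 : F) = 0) (hw : w ^ 2 + w + 1 = 0) : T w * T' w = 1 := by
  have e1 : w ^ 2 + w = 1 := by linear_combination hw - h2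
  have e2 : w + w = 0 := by linear_combination w * h2
  have e3 : w ^ 2 + w * w = 0 := by linear_combination w ^ 2 * h2
  have e4 : w + w * w = 1 := by linear_combination hw - h2
  rw [T, T', fromBlocks_multiply, ← fromBlocks_one]
  simp only [one_mul, smul_mul_smul_comm, mul_one, ← add_smul, e1, e2, e3, e4, one_smul, zero_smul]

theorem T_mul' (h2 : (2 : F) = 0) (hw : w ^ 2 + w + 1 = 0) : T' w * T w = 1 :=
  mul_eq_one_comm.1 (T_mul h2 hw)

theorem sm (a b c : F) (h : a + b = c) : a • (1 : Matrix (Fin 3) (Fin 3) F) + b • 1 = c • 1 := by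
  rw [← add_smul, h]

variable [Fintype F] (hF : Fintype.card F = 2 ^ 2)

theorem T_form (h2 : (2 : F) = 0) (hw : w ^ 2 + w + 1 = 0) :
    (T w)ᵀ * (T w).map (GUOrder.frob hF) = fromBlocks 0 (w • 1) (w ^ 2 • 1) 0 := by
  have e0 := sm (1 : F) 1 0 (by linear_combination h2)
  have e1 := sm 1 (w ^ 2) w (by linear_combination hw - w * h2)
  have e2 := sm 1 w (w ^ 2) (by linear_combination hw - w ^ 2 * h2)
  have e3 := sm 1 (w * w ^ 2) 0 (by linear_combination (w - 1) * hw + h2)
  have hm1 : (1 : Matrix (Fin 3) (Fin 3) F).map (GUOrder.frob hF) = 1 := by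
    rw [Matrix.map_one _ (map_zero _) (map_one _)]
  have hm2 : (w • (1 : Matrix (Fin 3) (Fin 3) F)).map (GUOrder.frob hF) = w ^ 2 • 1 := by
    ext i j
    simp only [map_apply, Matrix.smul_apply, GUOrder.frob_apply]
    by_cases hij : i = j
    · subst hij; simp
    · simp [hij]
  rw [one_smul] at e0 e1 e2 e3
  rw [T, fromBlocks_transpose, fromBlocks_map, fromBlocks_multiply, hm1, hm2]
  simp only [transpose_one, transpose_smul, smul_mul_smul_comm, mul_one, one_mul, e0, e1, e2, e3, zero_smul]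

/-- the matrix of an element of `SL_3` -/
def cc : SpecialLinearGroup (Fin 3) F →* Matrix (Fin 3) (Fin 3) F := SpecialLinearGroup.coeMonoidHom

omit [Fintype F] in
theorem cc_det (A : SpecialLinearGroup (Fin 3) F) : (cc A).det = 1 := A.2

omit [Fintype F] in
theorem cc_inv (A : SpecialLinearGroup (Fin 3) F) : cc A⁻¹ * cc A = 1 := by
  rw [← map_mul, inv_mul_cancel, map_one]

/-- the block diagonal matrix `diag(A, (A^*)⁻¹)` -/
def D (A : SpecialLinearGroup (Fin 3) F) : Matrix (Fin 3 ⊕ Fin 3) (Fin 3 ⊕ Fin 3) F :=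
  fromBlocks (cc A) 0 0 ((cc A⁻¹)ᵀ.map (GUOrder.frob hF))

theorem D_one : D hF (1 : SpecialLinearGroup (Fin 3) F) = 1 := by
  rw [D, inv_one, map_one, transpose_one, Matrix.map_one _ (map_zero _) (map_one _),
    fromBlocks_one]

theorem D_mul (A B : SpecialLinearGroup (Fin 3) F) : D hF (A * B) = D hF A * D hF B := by
  rw [D, D, D, fromBlocks_multiply, _root_.mul_inv_rev, map_mul, map_mul,
    transpose_mul, Matrix.map_mul]
  simp

theorem D_det (A : SpecialLinearGroup (Fin 3) F) : (D hF A).det = 1 := by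
  rw [D, det_fromBlocks_zero₁₂, cc_det, one_mul]
  have h1 := (GUOrder.frob hF).map_det ((cc A⁻¹)ᵀ)
  rw [det_transpose, cc_det, map_one] at h1
  exact h1.symm

theorem frob_frob (A : Matrix (Fin 3) (Fin 3) F) : (A.map (GUOrder.frob hF)).map (GUOrder.frob hF) = A := by
  ext i j
  simp only [map_apply, GUOrder.frob_apply]
  exact HermBasic.pow_q_pow_q hF _

theorem D_form (A : SpecialLinearGroup (Fin 3) F) :
    (D hF A)ᵀ * fromBlocks 0 (w • 1) (w ^ 2 • 1) 0 * (D hF A).map (GUOrder.frob hF) =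
      fromBlocks 0 (w • 1) (w ^ 2 • 1) 0 := by
  have h0 : (0 : Matrix (Fin 3) (Fin 3) F).map (GUOrder.frob hF) = 0 := Matrix.map_zero _ (map_zero _)
  have h1 : (cc A)ᵀ * (cc A⁻¹)ᵀ = 1 := by
    rw [← transpose_mul, cc_inv, transpose_one]
  have h2 : (cc A⁻¹).map (GUOrder.frob hF) * (cc A).map (GUOrder.frob hF) = 1 := by
    rw [← Matrix.map_mul, cc_inv, Matrix.map_one _ (map_zero _) (map_one _)]
  rw [D, fromBlocks_transpose, fromBlocks_map, frob_frob, h0, fromBlocks_multiply, fromBlocks_multiply]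
  rw [transpose_map, transpose_transpose]
  simp [h1, h2]

/-- the matrix -/
def M (w : F) (A : SpecialLinearGroup (Fin 3) F) : Matrix (Fin 3 ⊕ Fin 3) (Fin 3 ⊕ Fin 3) F :=
  T w * D hF A * T' w

theorem M_one (h2 : (2 : F) = 0) (hw : w ^ 2 + w + 1 = 0) : M hF w 1 = 1 := by
  rw [M, D_one, mul_one, T_mul h2 hw]

theorem M_mul (h2 : (2 : F) = 0) (hw : w ^ 2 + w + 1 = 0) (A B : SpecialLinearGroup (Fin 3) F) :
    M hF w (A * B) = M hF w A * M hF w B := by
  rw [M, M, M, D_mul]
  calc T w * (D hF A * D hF B) * T' w = T w * D hF A * 1 * D hF B * T' w := by simp only [mul_one, mul_assoc]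
    _ = (T w * D hF A * T' w) * (T w * D hF B * T' w) := by rw [← T_mul' h2 hw]; simp only [mul_assoc]

theorem M_det (h2 : (2 : F) = 0) (hw : w ^ 2 + w + 1 = 0) (A : SpecialLinearGroup (Fin 3) F) :
    (M hF w A).det = 1 := by
  rw [M, det_mul, det_mul, D_det, mul_one, ← det_mul, T_mul h2 hw, det_one]

theorem M_form (h2 : (2 : F) = 0) (hw : w ^ 2 + w + 1 = 0) (A : SpecialLinearGroup (Fin 3) F) :
    (M hF w A)ᵀ * (M hF w A).map (GUOrder.frob hF) = 1 := by
  rw [M, transpose_mul, transpose_mul, Matrix.map_mul, Matrix.map_mul]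
  calc (T' w)ᵀ * ((D hF A)ᵀ * (T w)ᵀ) *
        ((T w).map (GUOrder.frob hF) * (D hF A).map (GUOrder.frob hF) * (T' w).map (GUOrder.frob hF))
      = (T' w)ᵀ * ((D hF A)ᵀ * ((T w)ᵀ * (T w).map (GUOrder.frob hF)) * (D hF A).map (GUOrder.frob hF)) *
          (T' w).map (GUOrder.frob hF) := by simp only [mul_assoc]
    _ = ((T' w)ᵀ * (T w)ᵀ) * ((T w).map (GUOrder.frob hF) * (T' w).map (GUOrder.frob hF)) := by
        rw [T_form hF h2 hw, D_form, ← T_form hF h2 hw]; simp only [mul_assoc]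
    _ = 1 := by
        rw [← transpose_mul, ← Matrix.map_mul, T_mul h2 hw, transpose_one,
          Matrix.map_one _ (map_zero _) (map_one _), mul_one]

/-- the matrix of size 6 -/
def N (w : F) (A : SpecialLinearGroup (Fin 3) F) : Matrix (Fin (3 + 3)) (Fin (3 + 3)) F :=
  Matrix.reindex finSumFinEquiv finSumFinEquiv (M hF w A)

/-- `SL₃(4) → SU₆(2)` -/
def hom (h2 : (2 : F) = 0) (hw : w ^ 2 + w + 1 = 0) : SpecialLinearGroup (Fin 3) F →* Cfsg.SU (3 + 3) F 2 where
  toFun A := mkSU hF (N hF w A) (by rw [N, Matrix.det_reindex_self, M_det hF h2 hw]) (by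
    rw [N, Matrix.transpose_reindex]
    have h3 : (Matrix.reindex finSumFinEquiv finSumFinEquiv (M hF w A)).map (GUOrder.frob hF) =
        Matrix.reindex finSumFinEquiv finSumFinEquiv ((M hF w A).map (GUOrder.frob hF)) := rfl
    rw [h3, Matrix.reindex_apply, Matrix.reindex_apply, Matrix.submatrix_mul_equiv, M_form hF h2 hw]
    simp)
  map_one' := by
    apply cm_injective
    rw [cm_mkSU, map_one, N, M_one hF h2 hw]
    simp
  map_mul' A B := by
    apply cm_injective
    rw [cm_mkSU, map_mul, cm_mkSU, cm_mkSU, N, N, N, M_mul hF h2 hw, Matrix.reindex_apply, Matrix.reindex_apply,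
      Matrix.reindex_apply, Matrix.submatrix_mul_equiv]

theorem cm_hom (h2 : (2 : F) = 0) (hw : w ^ 2 + w + 1 = 0) (A : SpecialLinearGroup (Fin 3) F) :
    cm (hom hF h2 hw A) = N hF w A := rfl

omit [Fintype F] in
theorem reindex_smul_one (c : F) : Matrix.reindex (finSumFinEquiv (m := 3) (n := 3)) finSumFinEquiv
    (c • (1 : Matrix (Fin 3 ⊕ Fin 3) (Fin 3 ⊕ Fin 3) F)) = c • 1 := by
  rw [Matrix.reindex_apply]
  ext i j
  simp only [submatrix_apply, Matrix.smul_apply]
  by_cases hij : i = j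
  · subst hij; simp
  · rw [one_apply_ne hij, one_apply_ne (fun h => hij ((finSumFinEquiv (m := 3) (n := 3)).symm.injective h))]

theorem mem_center (h2 : (2 : F) = 0) (hw : w ^ 2 + w + 1 = 0) {A : SpecialLinearGroup (Fin 3) F}
    (h : A ∈ Subgroup.center (SpecialLinearGroup (Fin 3) F)) :
    hom hF h2 hw A ∈ Subgroup.center (Cfsg.SU (3 + 3) F 2) := by
  obtain ⟨r, hr, hrA⟩ := Matrix.SpecialLinearGroup.mem_center_iff.1 h
  have hcc : cc A = r • 1 := by
    have : cc A = Matrix.scalar (Fin 3) r := hrA.symm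
    rw [this, Matrix.smul_one_eq_diagonal]; rfl
  have hr3 : r ^ 3 = 1 := by simpa using hr
  have hci : cc A⁻¹ = r ^ 2 • 1 := by
    have h1 := cc_inv A
    rw [hcc, mul_smul_comm, mul_one] at h1
    calc cc A⁻¹ = (r ^ 2 * r) • cc A⁻¹ := by rw [show r ^ 2 * r = 1 by rw [← hr3]; ring, one_smul]
      _ = r ^ 2 • (r • cc A⁻¹) := by rw [smul_smul]
      _ = r ^ 2 • 1 := by rw [h1]
  have hD : D hF A = r • 1 := by
    have h3 : ((cc A⁻¹)ᵀ.map (GUOrder.frob hF)) = r • 1 := by
      rw [hci]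
      ext i j
      by_cases hij : i = j
      · subst hij
        simp only [transpose_smul, transpose_one, map_apply, Matrix.smul_apply, one_apply_eq, smul_eq_mul, mul_one,
          GUOrder.frob_apply]
        calc (r ^ 2) ^ 2 = r ^ 3 * r := by ring
          _ = r := by rw [hr3, one_mul]
      · simp [hij]
    rw [D, h3, hcc, ← fromBlocks_one, fromBlocks_smul]
    simp
  have hM : M hF w A = r • 1 := by
    rw [M, hD, mul_smul_comm, mul_one, smul_mul_assoc, T_mul h2 hw]
  rw [Subgroup.mem_center_iff]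
  intro g
  apply cm_injective
  rw [map_mul, map_mul, cm_hom, N, hM, reindex_smul_one, mul_smul_comm, smul_mul_assoc, mul_one, one_mul]

theorem center_of (h2 : (2 : F) = 0) (hw : w ^ 2 + w + 1 = 0) {A : SpecialLinearGroup (Fin 3) F}
    (h : hom hF h2 hw A ∈ Subgroup.center (Cfsg.SU (3 + 3) F 2)) :
    A ∈ Subgroup.center (SpecialLinearGroup (Fin 3) F) := by
  obtain ⟨c, hc1, hc2, h1⟩ := (SUBasic.mem_center_SU_iff hF (by norm_num) _).1 h
  have h3 : N hF w A = c • 1 := by
    have : N hF w A = Matrix.diagonal (fun _ => c) := congrArg cm h1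
    rw [this, Matrix.smul_one_eq_diagonal]
  have h4 : M hF w A = c • 1 := by
    apply (Matrix.reindex (finSumFinEquiv (m := 3) (n := 3)) finSumFinEquiv).injective
    rw [← N, h3, reindex_smul_one]
  have h5 : D hF A = c • 1 := by
    calc D hF A = (T' w * T w) * D hF A * (T' w * T w) := by rw [T_mul' h2 hw, one_mul, mul_one]
      _ = T' w * M hF w A * T w := by rw [M]; simp only [mul_assoc]
      _ = c • 1 := by rw [h4, mul_smul_comm, mul_one, smul_mul_assoc, T_mul' h2 hw]
  have h6 : cc A = c • 1 := by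
    rw [D, ← fromBlocks_one, fromBlocks_smul, fromBlocks_inj] at h5
    exact h5.1
  rw [Subgroup.mem_center_iff]
  intro g
  have h7 : Function.Injective (cc : SpecialLinearGroup (Fin 3) F →* Matrix (Fin 3) (Fin 3) F) :=
    SpecialLinearGroup.coeMonoidHom_injective
  apply h7
  rw [map_mul, map_mul, h6, mul_smul_comm, smul_mul_assoc, mul_one, one_mul]

include hF in
theorem exists_hom : ∃ f : ProjectiveSpecialLinearGroup (Fin 3) F →* Cfsg.PSU 6 F 2, Function.Injective f := by
  have h2 : (2 : F) = 0 := by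
    have h := FiniteField.cast_card_eq_zero F
    rw [hF] at h
    have h' : (2 : F) ^ 2 = 0 := by exact_mod_cast h
    exact pow_eq_zero_iff (by norm_num) |>.1 h'
  obtain ⟨w, hw⟩ : ∃ w : F, w ^ 2 + w + 1 = 0 := by
    classical
    have h3 : ∃ x ∈ (Finset.univ : Finset F), x ∉ ({0, 1} : Finset F) := by
      apply Finset.exists_mem_notMem_of_card_lt_card
      rw [Finset.card_univ, hF]
      exact lt_of_le_of_lt Finset.card_le_two (by norm_num)
    obtain ⟨x, -, hx⟩ := h3
    simp only [Finset.mem_insert, Finset.mem_singleton, not_or] at hx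
    refine ⟨x, ?_⟩
    have h4 : x ^ 3 = 1 := by
      have := FiniteField.pow_card_sub_one_eq_one x hx.1
      rwa [hF] at this
    have h5 : (x - 1) * (x ^ 2 + x + 1) = 0 := by linear_combination h4
    rcases mul_eq_zero.1 h5 with h6 | h6
    · exact absurd (sub_eq_zero.1 h6) hx.2
    · exact h6
  let g : SpecialLinearGroup (Fin 3) F →* Cfsg.PSU (3 + 3) F 2 := pr.comp (hom hF h2 hw)
  refine ⟨QuotientGroup.lift _ g fun A hA => (pr_eq_one_iff _).2 (mem_center hF h2 hw hA), ?_⟩
  rw [injective_iff_map_eq_one]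
  intro x
  induction x using QuotientGroup.induction_on with
  | H A =>
    intro hx
    exact (QuotientGroup.eq_one_iff A).2 (center_of hF h2 hw ((pr_eq_one_iff _).1 hx))

end L34

/-- **X4** -/
theorem psu6_psl34 : Sub.{u} (.psu 6 2) (.psl 3 4) := by
  intro X _ hX
  obtain ⟨F, i1, i2, hF, ⟨e⟩⟩ := hX
  obtain ⟨f, hf⟩ := exists_hom hF
  refine of_range (e.symm.toMonoidHom.comp f) (e.symm.injective.comp hf) ?_
  intro L _ hL
  exact ⟨F, i1, i2, by rw [hF]; norm_num, hL⟩

end Cfsg.Agent.H446.TSub
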