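import Cfsg.Agent.H132.Crit
import Cfsg.Agent.H661.SporAll
import Cfsg.Agent.QTNorm.SporRu
import Cfsg.Agent.QTNorm.SporJ4
import Cfsg.Agent.QTNorm.Main
import Cfsg.Agent.H868.SelfN23
import Cfsg.Agent.H799.MTSyl
import Cfsg.Agent.TypeM.FactsMcL
import Cfsg.Agent.TypeM.FactsLy
import Cfsg.Agent.SporadicB.ON45Sub
import Cfsg.Agent.S1699
import Cfsg.Agent.H393.Iso.Base
import Cfsg.Agent.CTwoTab.FiTF
import Cfsg.Agent.MonsterX.ThOneClass

/-!
# `Wand` for sporadic groups, first part (S4011, helper446)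

* self-normalising Sylow 2-subgroups: `M11`, `M23`, `M24`, `J4`, `Ru`, `McL`, `Ly`;
* a real element of prime order `r`, where `r` does not divide `2 ^ k - 1`, `1 ≤ k ≤ a`, `|G|₂ = 2 ^ a`:
  `J1` (`r = 5`), `J3` (`r = 17`), `O'N` (`r = 19`), the Tits group (`r = 13`);
* a real element with a centraliser of odd order: `Th` (`r = 13`), `Fi24'` (`r = 17`).
-/

set_option autoImplicit false

namespace Cfsg.Agent.H446.WandSpor

open Subgroup Cfsg Cfsg.Agent.H132 Cfsg.Agent.QTNorm Cfsg.Agent.H722.RealP Cfsg.Agent.H661.Spor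
  Cfsg.Agent.NotCT

universe u

variable {X : Type u} [Group X] [Finite X]

/-- a self-normalising Sylow 2-subgroup, group order divisible by an odd prime -/
theorem wand_of_selfN (h : SelfN X) {p : ℕ} (hp : p.Prime) (hp2 : p ≠ 2) (hc : p ∣ Nat.card X) : Wand X := by
  have hf : Fact (Nat.Prime 2) := ⟨Nat.prime_two⟩
  obtain ⟨P⟩ : Nonempty (Sylow 2 X) := inferInstance
  have hle := h P
  have hne : (P : Subgroup X) ≠ ⊤ := by
    intro htop
    obtain ⟨k, hk⟩ := IsPGroup.iff_card.1 P.2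
    rw [htop, card_top] at hk
    rw [hk] at hc
    exact hp2 ((Nat.prime_dvd_prime_iff_eq hp Nat.prime_two).1 (hp.dvd_of_dvd_pow hc))
  refine wand_of_self P ?_ (le_antisymm hle le_normalizer)
  intro hn
  apply hne
  rw [normalizer_eq_top_iff.2 hn] at hle
  exact top_le_iff.1 hle

theorem wand_m11 (h : Spor.IsoM11 X) : Wand X :=
  wand_of_selfN (selfN_m11 h) (p := 3) (by norm_num) (by norm_num) (by rw [Orders.m11 h]; norm_num)

theorem wand_m23 (h : Spor.IsoM23 X) : Wand X := by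
  have hc := Orders.m23 h
  obtain ⟨e⟩ := h
  have : Finite Spor.M23 := Finite.of_equiv _ e.toEquiv
  exact wand_of_selfN (H868.selfN_M23.congr e.symm) (p := 3) (by norm_num) (by norm_num) (by rw [hc]; norm_num)

theorem wand_m24 (h : Spor.IsoM24 X) : Wand X :=
  wand_of_selfN (selfN_m24 h) (p := 3) (by norm_num) (by norm_num) (by rw [Orders.m24 h]; norm_num)

theorem wand_j4 (h : Spor.IsoJ4 X) : Wand X :=
  wand_of_selfN (JFour.selfN_j4 h) (p := 3) (by norm_num) (by norm_num) (by rw [Orders.j4 h]; norm_num)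

theorem wand_ru (h : Spor.IsoRu X) : Wand X :=
  wand_of_selfN (RuRow.selfN_ru h) (p := 3) (by norm_num) (by norm_num) (by rw [Orders.ru h]; norm_num)

theorem wand_mcl (h : Spor.IsoMcL X) : Wand X := by
  obtain ⟨-, -, hc, ⟨L⟩⟩ := TypeM.FactsMcL.facts h
  exact wand_of_selfN (H799.MTSyl.normalizer_le (by norm_num) (by norm_num) L) (p := 3) (by norm_num) (by norm_num)
    (by rw [hc]; norm_num)

theorem wand_ly (h : Spor.IsoLy X) : Wand X := by
  obtain ⟨-, -, hc, ⟨L⟩⟩ := TypeM.FactsLy.facts h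
  exact wand_of_selfN (H799.MTSyl.normalizer_le (by norm_num) (by norm_num) L) (p := 3) (by norm_num) (by norm_num)
    (by rw [hc]; norm_num)

/-- real elements of large prime order -/
theorem wand_of_hasReal {r a : ℕ} (hr : r.Prime) (hr2 : r ≠ 2) (hR : HasReal r X)
    (ha : ¬ 2 ^ (a + 1) ∣ Nat.card X) (hnum : ∀ k < a + 1, 1 ≤ k → ¬ r ∣ 2 ^ k - 1) : Wand X := by
  obtain ⟨x, hx, hc⟩ := hR.isConj
  exact wand_of_large hr hr2 hx hc ha fun k h1 h2 => hnum k (by omega) h1

theorem wand_j1 [IsSimpleGroup X] (h : Spor.IsoJ1 X) : Wand X := by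
  have hc := Orders.j1 h
  have hR : HasReal 5 X := hasReal_fermat (k := 2) (by norm_num) (by norm_num) (by rw [hc]; norm_num)
    (by rw [hc]; norm_num) (by rw [hc]; norm_num)
  exact wand_of_hasReal (a := 3) (by norm_num) (by norm_num) hR (by rw [hc]; norm_num) (by decide)

theorem wand_j3 [IsSimpleGroup X] (h : Spor.IsoJ3 X) : Wand X := by
  have hc := Orders.j3 h
  have hR : HasReal 17 X := hasReal_fermat (k := 4) (by norm_num) (by norm_num) (by rw [hc]; norm_num)
    (by rw [hc]; norm_num) (by rw [hc]; norm_num)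
  exact wand_of_hasReal (a := 7) (by norm_num) (by norm_num) hR (by rw [hc]; norm_num) (by decide)

theorem wand_tits (h : Lie.IsoTits X) : Wand X := by
  have hc := Orders.tits h
  exact wand_of_hasReal (r := 13) (a := 11) (by norm_num) (by norm_num) (hasReal_tits h) (by rw [hc]; norm_num)
    (by decide)

open Cfsg.Agent.SporadicB.ON45Word Cfsg.Agent.SporadicB.ON45Sub in
/-- two involutions of `O'N` with product of order 19 -/
theorem hasReal_on_model : HasReal 19 Spor.ON := by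
  have hs : IsSimpleGroup Spor.ON := S1699.result.1
  have ha := (relJ1 hs).a2
  refine HasReal_of_dihedral (s := xA) (t := xB * xA * xB⁻¹) (by norm_num) ha ?_ ?_ ?_
  · calc xB * xA * xB⁻¹ * (xB * xA * xB⁻¹) = xB * (xA * xA) * xB⁻¹ := by group
      _ = 1 := by rw [ha]; group
  · have h1 : xA * (xB * xA * xB⁻¹) = xA * xB * xA * xB⁻¹ := by group
    rw [h1]
    exact (lP.pow 19).eq_one hs 1 (by decide) (by decide +kernel)
  · have h1 : xA * (xB * xA * xB⁻¹) = xA * xB * xA * xB⁻¹ := by group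
    rw [h1]
    exact lP.ne_one 1 0 (by decide) (by decide +kernel)

theorem hasReal_on {Y : Type*} [Group Y] (h : Spor.IsoON Y) : HasReal 19 Y :=
  h.elim fun e => hasReal_on_model.map_equiv e.symm

theorem wand_on (h : Spor.IsoON X) : Wand X := by
  have hc := Orders.on h
  exact wand_of_hasReal (r := 19) (a := 9) (by norm_num) (by norm_num) (hasReal_on h) (by rw [hc]; norm_num)
    (by decide)

/-- real elements of prime order commuting with no involution -/
theorem wand_of_na {r a : ℕ} (hr : r.Prime) (hr2 : r ≠ 2) (hR : HasReal r X) (hN : H393.Iso.NA r X)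
    (ha : 2 ^ a ∣ Nat.card X) (ha' : ¬ 2 ^ (a + 1) ∣ Nat.card X) (hnum : ¬ r ∣ 2 ^ a - 1) : Wand X := by
  obtain ⟨x, hx, hc⟩ := hR.isConj
  refine wand_of_odd hr hr2 hx hc ha ha' ?_ hnum
  rw [← Nat.not_even_iff_odd, even_iff_two_dvd]
  intro h2
  have : Fact (Nat.Prime 2) := ⟨Nat.prime_two⟩
  obtain ⟨t, ht⟩ := exists_prime_orderOf_dvd_card' (G := centralizer ({x} : Set X)) 2 h2
  exact hN x t hx (by rw [orderOf_coe]; exact ht) (mem_centralizer_singleton_iff.1 t.2).symm

theorem wand_th (h : Spor.IsoTh X) : Wand X := by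
  have hc := Orders.th h
  obtain ⟨e⟩ := h
  have : Finite Spor.Th := Finite.of_equiv _ e.toEquiv
  have hN : H393.Iso.NA 13 Spor.Th := by
    refine H393.Iso.NA.of_card fun t ht => ?_
    rw [MonsterX.ThOneClass.card_centralizer ht]
    norm_num
  exact wand_of_na (r := 13) (a := 15) (by norm_num) (by norm_num) (Th.hasReal.map_equiv e.symm)
    (hN.of_equiv e.symm) (by rw [hc]; norm_num) (by rw [hc]; norm_num) (by norm_num)

section Fi24

open Cfsg.Spor Cfsg.Agent.R01 Cfsg.Agent.R08 Cfsg.Agent.R08.FiTwentyFour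
open Cfsg.Agent.R08.TetTwo Cfsg.Agent.R08.TetThree Cfsg.Agent.R08.TetBasic
open Cfsg.Agent.H393.Iso

local notation "Pr" => Cfsg.Agent.R08.TetFi24A.At

/-- helper393's proof for the prime 29, with the order of the second involution centraliser -/
theorem na_fi24_model : NA 17 Spor.Fi24' := by
  have := finite_Fi24
  have : Finite Spor.Fi24' := inferInstance
  refine NA.of_rep (fun s => (∃ a b : Fi24, ∃ _ : Pr a b, (s : Fi24) = a * b) ∨ s = CTwoTab.FiTF.z0)
    (fun t ht ht1 => ?_) ?_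
  · rcases CTwoTab.FiTF.classes t (two_of_sq ht ht1) with h | ⟨g, hg⟩
    · exact ⟨1, t, Or.inl h, by group⟩
    · exact ⟨g, _, Or.inr rfl, hg.symm⟩
  · rintro s (⟨a, b, P, hs⟩ | rfl) x hx hxs
    · refine false_of_pow_mem (by norm_num) (L := CTwoTab.FiTF.N a b) ?_ hx (n := 2) (by norm_num) ?_
      · rw [Nat.card_congr (CTwoTab.FiTF.eN a b).toEquiv, OddHalf.D4.Spor.FiTF.card_Cab P]
        norm_num
      · have h2 : ((x ^ 2 : Spor.Fi24') : Fi24) = (x : Fi24) * (x : Fi24) := by
          rw [SubgroupClass.coe_pow, pow_two]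
        have h3 : ∀ u v w : Fi24, (x : Fi24) * u * (x : Fi24)⁻¹ = v → (x : Fi24) * v * (x : Fi24)⁻¹ = w →
            (x : Fi24) * (x : Fi24) * u = w * ((x : Fi24) * (x : Fi24)) := by
          rintro u v w rfl rfl
          group
        have h4 : (x : Fi24) * (x : Fi24) * a = a * ((x : Fi24) * (x : Fi24)) ∧
            (x : Fi24) * (x : Fi24) * b = b * ((x : Fi24) * (x : Fi24)) := by
          rcases CTwoTab.FiTF.fix_or_swap P hs (mem_cent.2 hxs) with ⟨k1, k2⟩ | ⟨k1, k2⟩
          · exact ⟨h3 _ _ _ k1 k1, h3 _ _ _ k2 k2⟩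
          · exact ⟨h3 _ _ _ k1 k2, h3 _ _ _ k2 k1⟩
        rw [CTwoTab.FiTF.mem_N, mem_Cab, h2]
        exact ⟨mem_commutator_iff.1 (by rw [← h2]; exact (x ^ 2 : Spor.Fi24').2), h4.1, h4.2⟩
    · refine not_comm_of_card (X := Fi24) (p := 17) (t := ((CTwoTab.FiTF.z0 : Spor.Fi24') : Fi24)) ?_
        (x := (x : Fi24)) (by rw [orderOf_coe]; exact hx) (congrArg Subtype.val hxs)
      rw [CTwoTab.FiTF.coe_z0, KFacts.FiTF.Order.card]
      norm_num

end Fi24

theorem wand_fi24 [IsSimpleGroup X] (h : Spor.IsoFi24' X) : Wand X := by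
  have hc := Orders.fi24 h
  have hR : HasReal 17 X := hasReal_fermat (k := 4) (by norm_num) (by norm_num) (by rw [hc]; norm_num)
    (by rw [hc]; norm_num) (by rw [hc]; norm_num)
  obtain ⟨e⟩ := h
  exact wand_of_na (r := 17) (a := 21) (by norm_num) (by norm_num) hR (na_fi24_model.of_equiv e.symm)
    (by rw [hc]; norm_num) (by rw [hc]; norm_num) (by norm_num)

end Cfsg.Agent.H446.WandSpor
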